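import Cfsg.Agent.H732.VZ.Sing

/-!
# S4842: isolated primes from a central extension (helper530)

* `IsoAt p r S` : `S` has an element `z` of order `r` whose centralizer is a `p'`-group, with `z` a power of every
  `y ∈ C(z)` of order divisible by `r`, centralizers of such `y` of index prime to `r`, and not
  (`C(z) = ⟨z⟩` and `z` conjugate to all its powers of order `r`);
* `isoAt_of_cover` : the criterion for a central extension `π : H →* S`.
-/

set_option autoImplicit false

namespace Cfsg.Agent.H530.OZ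

open Subgroup

/-- The isolated prime `r`. -/
def IsoAt (p r : ℕ) (S : Type*) [Group S] : Prop :=
  ∃ z : S, orderOf z = r ∧ (∀ y, Commute z y → r ∣ orderOf y → z ∈ Subgroup.zpowers y) ∧
    (∀ y, Commute z y → ¬ r ∣ (Subgroup.centralizer ({y} : Set S)).index) ∧
    (∀ y, Commute z y → ¬ p ∣ orderOf y) ∧
    ¬ (Nat.card (Subgroup.centralizer ({z} : Set S)) = r ∧ ∀ m : ℕ, ¬ r ∣ m → IsConj z (z ^ m))

theorem IsoAt.of_equiv {p r : ℕ} {S T : Type*} [Group S] [Group T] (e : S ≃* T) (h : IsoAt p r S) : IsoAt p r T := by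
  obtain ⟨z, h1, h2, h3, h4, h5⟩ := h
  have hcen : ∀ y : T, (Subgroup.centralizer ({e.symm y} : Set S)).map e.toMonoidHom =
      Subgroup.centralizer ({y} : Set T) := by
    intro y
    ext t
    rw [Subgroup.mem_map]
    constructor
    · rintro ⟨s, hs, rfl⟩
      rw [Subgroup.mem_centralizer_singleton_iff] at hs ⊢
      have := congrArg e hs
      rw [map_mul, map_mul, e.apply_symm_apply] at this
      exact this
    · intro ht
      refine ⟨e.symm t, ?_, e.apply_symm_apply t⟩
      rw [Subgroup.mem_centralizer_singleton_iff] at ht ⊢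
      rw [← map_mul, ht, map_mul]
  have hcom : ∀ y : T, Commute (e z) y → Commute z (e.symm y) := by
    intro y hy
    have h6 := hy.map e.symm
    rwa [e.symm_apply_apply] at h6
  refine ⟨e z, ?_, ?_, ?_, ?_, ?_⟩
  · rw [orderOf_injective e.toMonoidHom e.injective z |> (fun h => (show orderOf (e z) = orderOf z from h)), h1]
  · intro y hy hry
    have h6 := h2 _ (hcom y hy) (by
      rwa [orderOf_injective e.symm.toMonoidHom e.symm.injective y |>
        (fun h => (show orderOf (e.symm y) = orderOf y from h))])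
    obtain ⟨k, hk⟩ := Subgroup.mem_zpowers_iff.1 h6
    rw [Subgroup.mem_zpowers_iff]
    refine ⟨k, ?_⟩
    rw [← hk, map_zpow, e.apply_symm_apply]
  · intro y hy
    have h6 := h3 _ (hcom y hy)
    rw [← hcen]
    rwa [Subgroup.index_map_of_bijective e.bijective]
  · intro y hy
    have h6 := h4 _ (hcom y hy)
    rwa [orderOf_injective e.symm.toMonoidHom e.symm.injective y |>
      (fun h => (show orderOf (e.symm y) = orderOf y from h))] at h6
  · rintro ⟨h6, h7⟩
    apply h5
    constructor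
    · rw [← h6, ← hcen, e.symm_apply_apply]
      exact Nat.card_congr (Subgroup.equivMapOfInjective _ e.toMonoidHom e.injective).toEquiv
    · intro m hm
      have h8 := h7 m hm
      rw [← map_pow] at h8
      obtain ⟨c, hc⟩ := isConj_iff.1 h8
      refine isConj_iff.2 ⟨e.symm c, e.injective ?_⟩
      rw [map_mul, map_mul, map_inv, e.apply_symm_apply, hc]

section cover

variable {H S : Type*} [Group H] [Finite H] [Group S] {π : H →* S} {p r c : ℕ}

omit [Finite H] in
/-- Commuting images. -/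
theorem commute_of_map (hcen : ∀ k ∈ π.ker, ∀ h : H, k * h = h * k)
    (hc : ∀ k ∈ π.ker, k ^ c = 1) (hcr : c.Coprime r) {z : H} (hz : orderOf z = r) {y : H}
    (h : Commute (π z) (π y)) : Commute z y := by
  -- `y z y⁻¹ = k z`
  have hk : y * z * y⁻¹ * z⁻¹ ∈ π.ker := by
    rw [MonoidHom.mem_ker, map_mul, map_mul, map_mul, map_inv, map_inv, ← h.eq]
    group
  set k := y * z * y⁻¹ * z⁻¹ with hkdef
  have h1 : y * z * y⁻¹ = k * z := by rw [hkdef]; group
  have h2 : (y * z * y⁻¹) ^ r = 1 := by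
    rw [conj_pow, ← hz, pow_orderOf_eq_one, mul_one, mul_inv_cancel]
  have h3 : k ^ r = 1 := by
    have h4 : Commute k z := hcen k hk z
    rw [h1, h4.mul_pow, ← hz, pow_orderOf_eq_one, mul_one] at h2
    rwa [← hz]
  have h5 : k = 1 := by
    have h6 := orderOf_dvd_of_pow_eq_one (hc k hk)
    have h7 := orderOf_dvd_of_pow_eq_one h3
    have h8 : orderOf k = 1 := Nat.dvd_one.1 (hcr ▸ Nat.dvd_gcd h6 h7)
    exact orderOf_eq_one_iff.1 h8
  rw [h5, one_mul] at h1
  show z * y = y * z
  rw [mul_inv_eq_iff_eq_mul] at h1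
  exact h1.symm

/-- **The criterion.** -/
theorem isoAt_of_cover (hπ : Function.Surjective π) (hr : r.Prime) (hp : p.Prime)
    (hcen : ∀ k ∈ π.ker, ∀ h : H, k * h = h * k)
    (hc : ∀ k ∈ π.ker, k ^ c = 1) (hcr : c.Coprime r) (hcp : c.Coprime p) {z : H} (hz : orderOf z = r)
    {L : Type*} [Field L] (τ : Subgroup.centralizer ({z} : Set H) →* Lˣ)
    (hτ : ∀ x : Subgroup.centralizer ({z} : Set H), (∃ j : ℕ, x ^ (r ^ j) = 1) → τ x = 1 → x = 1)
    (hcomm : ∀ x y : Subgroup.centralizer ({z} : Set H), (∃ j : ℕ, x ^ (r ^ j) = 1) → Commute x y)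
    (hpp : ∀ x : H, Commute z x → x ^ p = 1 → x = 1)
    (hnot : ¬ ((∀ x : H, Commute z x → (π x) ^ r = 1) ∧ ∀ m : ℕ, ¬ r ∣ m → IsConj z (z ^ m))) : IsoAt p r S := by
  classical
  have hfr : Fact r.Prime := ⟨hr⟩
  have hfS : Finite S := Finite.of_surjective π hπ
  have hmem : ∀ {x : H}, x ∈ Subgroup.centralizer ({z} : Set H) ↔ Commute z x := by
    intro x
    rw [Subgroup.mem_centralizer_singleton_iff]
    exact ⟨fun h => h.symm, fun h => h.symm⟩
  have hzz : z ∈ Subgroup.centralizer ({z} : Set H) := hmem.2 (Commute.refl z)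
  -- elements of order dividing `r` in the centralizer
  have hord : ∀ x : H, Commute z x → x ^ r = 1 → x ∈ Subgroup.zpowers z := by
    intro x hx hxr
    set x' : Subgroup.centralizer ({z} : Set H) := ⟨x, hmem.2 hx⟩ with hx'
    set z' : Subgroup.centralizer ({z} : Set H) := ⟨z, hzz⟩ with hz'
    have hz'o : orderOf (τ z') = r := by
      rcases (Nat.dvd_prime hr).1 (orderOf_dvd_of_pow_eq_one (x := τ z') (n := r) (by
        rw [← map_pow]
        have : z' ^ r = 1 := Subtype.ext (by
          show z ^ r = 1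
          rw [← hz, pow_orderOf_eq_one])
        rw [this, map_one])) with h | h
      · exfalso
        have h1 := hτ z' ⟨1, Subtype.ext (by
          show z ^ (r ^ 1) = 1
          rw [pow_one, ← hz, pow_orderOf_eq_one])⟩ (orderOf_eq_one_iff.1 h)
        have h2 : z = 1 := congrArg Subtype.val h1
        rw [h2, orderOf_one] at hz
        exact hr.one_lt.ne hz
      · exact h
    have hprim : IsPrimitiveRoot (τ z' : L) r := by
      rw [← hz'o, ← orderOf_units]
      exact IsPrimitiveRoot.orderOf _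
    have hxr' : ((τ x' : Lˣ) : L) ^ r = 1 := by
      rw [← Units.val_pow_eq_pow_val, ← map_pow]
      have : x' ^ r = 1 := Subtype.ext hxr
      rw [this, map_one, Units.val_one]
    have : NeZero r := ⟨hr.ne_zero⟩
    obtain ⟨i, hi, hi2⟩ := hprim.eq_pow_of_pow_eq_one hxr'
    have h3 : τ (x' * (z' ^ i)⁻¹) = 1 := by
      rw [map_mul, map_inv, map_pow]
      have : τ z' ^ i = τ x' := Units.ext (by rw [Units.val_pow_eq_pow_val]; exact hi2)
      rw [this, mul_inv_cancel]
    have hcx : Commute x' z' := Subtype.ext hx.symm.eq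
    have h4 := hτ (x' * (z' ^ i)⁻¹) ⟨1, by
      have h5 : Commute x' (z' ^ i)⁻¹ := (hcx.pow_right i).inv_right
      rw [pow_one, h5.mul_pow, inv_pow, ← pow_mul, mul_comm i r, pow_mul]
      have h6 : x' ^ r = 1 := Subtype.ext hxr
      have h7 : z' ^ r = 1 := Subtype.ext (by
        show z ^ r = 1
        rw [← hz, pow_orderOf_eq_one])
      rw [h6, h7, one_pow, inv_one, mul_one]⟩ h3
    have h5 : x' = z' ^ i := mul_inv_eq_one.1 h4
    have h6 : x = z ^ i := congrArg Subtype.val h5
    rw [h6]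
    exact Subgroup.npow_mem_zpowers z i
  -- the Sylow subgroup
  have hzP : IsPGroup r (Subgroup.zpowers z) := IsPGroup.of_card (n := 1) (by rw [Nat.card_zpowers, hz, pow_one])
  obtain ⟨R, hR⟩ := hzP.exists_le_sylow
  have hzR : z ∈ (R : Subgroup H) := hR (Subgroup.mem_zpowers z)
  have hz1 : z ≠ 1 := by
    rintro rfl
    rw [orderOf_one] at hz
    exact hr.one_lt.ne hz
  have hRC : (R : Subgroup H) ≤ Subgroup.centralizer ({z} : Set H) := by
    have hnt : Nontrivial (R : Subgroup H) := ⟨⟨⟨z, hzR⟩, 1, fun h => hz1 (congrArg Subtype.val h)⟩⟩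
    have hcnt := R.2.center_nontrivial
    obtain ⟨y, hy⟩ := exists_ne (1 : Subgroup.center (R : Subgroup H))
    -- an element of order `r` in the centre
    have hyo : ∃ j : ℕ, orderOf (y : (R : Subgroup H)) = r ^ (j + 1) := by
      obtain ⟨j, hj⟩ := (IsPGroup.iff_orderOf.1 R.2) (y : (R : Subgroup H))
      rcases j with _ | j
      · exfalso
        rw [pow_zero] at hj
        exact hy (Subtype.ext (orderOf_eq_one_iff.1 hj))
      · exact ⟨j, hj⟩
    obtain ⟨j, hj⟩ := hyo
    set w : (R : Subgroup H) := (y : (R : Subgroup H)) ^ (r ^ j) with hw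
    have hwo : orderOf w = r := by
      rw [hw, orderOf_pow_of_dvd (pow_pos hr.pos j).ne' (by rw [hj]; exact pow_dvd_pow r (Nat.le_succ j)), hj,
        Nat.pow_div (Nat.le_succ j) hr.pos]
      simp
    have hwc : w ∈ Subgroup.center (R : Subgroup H) := Subgroup.pow_mem _ y.2 _
    have hwc' : ∀ t : (R : Subgroup H), t * w = w * t := fun t => (Subgroup.mem_center_iff.1 hwc t)
    have hwz : Commute z (w : H) := by
      have := congrArg Subtype.val (hwc' ⟨z, hzR⟩)
      exact this
    have hw1 : (w : H) ∈ Subgroup.zpowers z := by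
      refine hord _ hwz ?_
      have : w ^ r = 1 := orderOf_dvd_iff_pow_eq_one.1 (dvd_of_eq hwo)
      exact congrArg Subtype.val this
    have hwo' : orderOf (w : H) = r := by rw [Subgroup.orderOf_coe, hwo]
    have hzw : z ∈ Subgroup.zpowers (w : H) := by
      have h1 : Subgroup.zpowers (w : H) ≤ Subgroup.zpowers z := by rwa [Subgroup.zpowers_le]
      have h2 := Subgroup.eq_of_le_of_card_ge h1 (by rw [Nat.card_zpowers, Nat.card_zpowers, hwo', hz])
      rw [h2]
      exact Subgroup.mem_zpowers z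
    intro t ht
    rw [hmem]
    obtain ⟨k, hk⟩ := Subgroup.mem_zpowers_iff.1 hzw
    rw [← hk]
    have h1 : Commute (w : H) t := (congrArg Subtype.val (hwc' ⟨t, ht⟩)).symm
    exact h1.zpow_left k
  have hRr : ∀ x : Subgroup.centralizer ({z} : Set H), (x : H) ∈ (R : Subgroup H) → ∃ j : ℕ, x ^ (r ^ j) = 1 := by
    intro x hx
    obtain ⟨j, hj⟩ := R.2 ⟨x, hx⟩
    have h1 : (x : H) ^ (r ^ j) = 1 := congrArg Subtype.val hj
    exact ⟨j, Subtype.ext h1⟩
  have hRcyc : IsCyclic (R : Subgroup H) := by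
    let f : (R : Subgroup H) →* Lˣ := τ.comp (Subgroup.inclusion hRC)
    have hf : Function.Injective f := by
      rw [injective_iff_map_eq_one]
      intro x hx
      have h1 := hτ (Subgroup.inclusion hRC x) (hRr _ x.2) hx
      have h2 : (x : H) = 1 := congrArg Subtype.val h1
      exact Subtype.ext h2
    let g : (R : Subgroup H) →* L := (Units.coeHom L).comp f
    exact isCyclic_of_injective_ringHom g (fun a b hab => hf (Units.ext hab))
  set R' : Sylow r S := R.mapSurjective hπ with hR'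
  have hR'c : ((R' : Sylow r S) : Subgroup S) = (R : Subgroup H).map π := Sylow.coe_mapSurjective hπ R
  have hR'cyc : IsCyclic (R' : Subgroup S) := by
    rw [hR'c]
    exact isCyclic_of_surjective (π.subgroupMap (R : Subgroup H)) (π.subgroupMap_surjective _)
  -- the order of `π z`
  have hπz : orderOf (π z) = r := by
    rcases (Nat.dvd_prime hr).1 (hz ▸ orderOf_map_dvd π z) with h | h
    · exfalso
      have h1 : π z = 1 := orderOf_eq_one_iff.1 h
      have h2 : z ^ c = 1 := hc z (MonoidHom.mem_ker.2 h1)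
      have h3 : r ∣ c := hz ▸ orderOf_dvd_of_pow_eq_one h2
      exact hr.one_lt.ne' (Nat.dvd_one.1 (hcr ▸ Nat.dvd_gcd h3 dvd_rfl))
    · exact h
  have hC : ∀ y, Commute (π z) y → ∀ t ∈ (R' : Subgroup S), Commute t y := by
    intro y hy t ht
    obtain ⟨y, rfl⟩ := hπ y
    rw [hR'c] at ht
    obtain ⟨t, ht', rfl⟩ := Subgroup.mem_map.1 ht
    have h1 := commute_of_map hcen hc hcr hz hy
    have h2 := hcomm ⟨t, hRC ht'⟩ ⟨y, hmem.2 h1⟩ (hRr ⟨t, hRC ht'⟩ ht')
    have h3 : Commute t y := congrArg Subtype.val h2.eq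
    exact h3.map π
  obtain ⟨h1, h2⟩ := Cfsg.Agent.H732.VZ.central_sylow R' hR'cyc hπz (by
    rw [hR'c]; exact Subgroup.mem_map_of_mem π hzR) hC
  refine ⟨π z, hπz, h1, h2, ?_, ?_⟩
  · intro y hy hpy
    obtain ⟨y, rfl⟩ := hπ y
    obtain ⟨s, hs⟩ := hpy
    have hs0 : s ≠ 0 := by
      rintro rfl
      rw [mul_zero] at hs
      exact (orderOf_pos (π y)).ne' hs
    have h3 : orderOf (π (y ^ s)) = p := by
      rw [map_pow, orderOf_pow_of_dvd hs0 ⟨p, by rw [hs]; ring⟩, hs, Nat.mul_div_cancel _ (Nat.pos_of_ne_zero hs0)]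
    have h4 : Commute z (y ^ s) := (commute_of_map hcen hc hcr hz hy).pow_right s
    have h5 : (y ^ s) ^ p ∈ π.ker := by
      rw [MonoidHom.mem_ker, map_pow]
      nth_rw 1 [← h3]
      exact pow_orderOf_eq_one _
    have h6 : ((y ^ s) ^ c) ^ p = 1 := by
      rw [← pow_mul, mul_comm c p, pow_mul]
      exact hc _ h5
    have h7 := hpp _ (h4.pow_right c) h6
    have h8 : p ∣ c := by
      rw [← h3]
      apply orderOf_dvd_of_pow_eq_one
      rw [← map_pow, h7, map_one]
    exact hp.one_lt.ne' (Nat.dvd_one.1 (hcp ▸ Nat.dvd_gcd h8 dvd_rfl))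
  · rintro ⟨h3, h4⟩
    apply hnot
    constructor
    · intro x hx
      have h5 : π x ∈ Subgroup.centralizer ({π z} : Set S) := by
        rw [Subgroup.mem_centralizer_singleton_iff]
        exact (hx.map π).symm.eq
      have h6 : (⟨π x, h5⟩ : Subgroup.centralizer ({π z} : Set S)) ^ Nat.card (Subgroup.centralizer ({π z} : Set S))
          = 1 := pow_card_eq_one'
      rw [h3] at h6
      exact congrArg Subtype.val h6
    · intro m hm
      obtain ⟨g, hg⟩ := isConj_iff.1 (h4 m hm)
      obtain ⟨g, rfl⟩ := hπ g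
      refine isConj_iff.2 ⟨g, ?_⟩
      have hk : g * z * g⁻¹ * (z ^ m)⁻¹ ∈ π.ker := by
        rw [MonoidHom.mem_ker, map_mul, map_mul, map_mul, map_inv, map_inv, map_pow, hg, mul_inv_cancel]
      set k := g * z * g⁻¹ * (z ^ m)⁻¹ with hkdef
      have h5 : g * z * g⁻¹ = k * z ^ m := by rw [hkdef]; group
      have h6 : (g * z * g⁻¹) ^ r = 1 := by
        rw [conj_pow, ← hz, pow_orderOf_eq_one, mul_one, mul_inv_cancel]
      have h7 : k ^ r = 1 := by
        have h8 : Commute k (z ^ m) := hcen k hk _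
        rw [h5, h8.mul_pow, ← pow_mul, mul_comm m r, pow_mul, ← hz, pow_orderOf_eq_one, one_pow, mul_one] at h6
        rwa [← hz]
      have h8 : k = 1 := by
        have h9 := orderOf_dvd_of_pow_eq_one (hc k hk)
        have h10 := orderOf_dvd_of_pow_eq_one h7
        have h11 : orderOf k = 1 := Nat.dvd_one.1 (hcr ▸ Nat.dvd_gcd h9 h10)
        exact orderOf_eq_one_iff.1 h11
      rw [h5, h8, one_mul]

end cover

end Cfsg.Agent.H530.OZ
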