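import Cfsg.Agent.H205.OZ.Nrm
import Cfsg.Agent.H845.OZ.OmLin

/-!
# S4842, `Ω_{2n+1}`: linear characters of `K` invariant under `d` (helper530)
-/

set_option autoImplicit false
set_option linter.unusedSectionVars false

namespace Cfsg.Agent.H530.OZ.OmK

open Module QuadraticMap Cfsg
open Cfsg.Agent.LieClassical.OrthCore Cfsg.Agent.H182.Sign Cfsg.Agent.H93.CJ Cfsg.Agent.H530.OZ
open Cfsg.Agent.H160.QSpin Cfsg.Agent.H160.QDisc Cfsg.Agent.H160.QSplit Cfsg.Agent.H205.OZ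

variable {F L P : Type} [Field F] [Fintype F] [Field L] [Finite L] [Algebra F L] [AddCommGroup P] [Module F P] [Finite P]
  {Q : QuadraticForm F L} {Q' : QuadraticForm F P} {p m k r : ℕ} {u lam : L}

theorem hlin (D : Dat p m k r Q Q' u lam) (hk : 1 ≤ k) {d : Om (Q.prod Q')} {β : L} {hβ : β ≠ 0} {s₁ : P ≃ₗ[F] P}
    (hd : (d : (L × P) ≃ₗ[F] (L × P)) = pr (mulL F β hβ) s₁) (hs₁ : El Q' (-1) s₁) :
    ∀ f : D.inj.range →* ℂˣ, (∀ (w : D.inj.range) (hw : d * w * d⁻¹ ∈ D.inj.range), f ⟨d * w * d⁻¹, hw⟩ = f w) →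
      ∀ w, f w = 1 := by
  intro f hf
  have h1 := H845.OZ.lin_trivial D.two D.nd hk D.dimP hs₁ (f.comp D.inj.rangeRestrict) (by
    intro g h
    have h' : s₁ * (g : P ≃ₗ[F] P) * s₁⁻¹ ∈ Om Q' := h
    have h2 : (d * (D.inj.rangeRestrict g : Om (Q.prod Q')) * d⁻¹) = D.inj ⟨s₁ * (g : P ≃ₗ[F] P) * s₁⁻¹, h'⟩ := by
      apply Subtype.ext
      exact D.conj_K hd (x := (D.inj.rangeRestrict g : Om (Q.prod Q'))) (D.coe_inj g)
    have h3 : d * (D.inj.rangeRestrict g : Om (Q.prod Q')) * d⁻¹ ∈ D.inj.range := by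
      rw [h2]
      exact ⟨_, rfl⟩
    have h4 := hf (D.inj.rangeRestrict g) h3
    show f (D.inj.rangeRestrict ⟨s₁ * (g : P ≃ₗ[F] P) * s₁⁻¹, h'⟩) = f (D.inj.rangeRestrict g)
    rw [← h4]
    congr 1
    exact Subtype.ext h2.symm)
  intro w
  obtain ⟨g, hg⟩ := D.inj.rangeRestrict_surjective w
  rw [← hg]
  exact DFunLike.congr_fun h1 g

end Cfsg.Agent.H530.OZ.OmK
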