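import Cfsg.Agent.H530.OZ.Orth
import Cfsg.Agent.H530.CJ.Space
import Cfsg.Agent.H93.PReg.OrthTori
import Cfsg.Agent.H93.CJ.Pi

/-!
# S4842: the tori of the orthogonal groups (helper530)

* `torU_minus` : multiplication by a primitive element of order `r` on a field of degree `2k`;
* `torU_plus` : `(a, b) ↦ (lam a, lam⁻¹ b)` on `L × L`, `[L : F]` odd.
-/

set_option autoImplicit false

namespace Cfsg.Agent.H530.OZ

open Module QuadraticMap Cfsg Subgroup
open Cfsg.Agent.LieClassical.OrthCore Cfsg.Agent.LieClassical.OrthTrans Cfsg.Agent.H890.SpParity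
open Cfsg.Agent.H122.OrthWt
open Cfsg.Agent.H182.Sign Cfsg.Agent.H530.CJ Cfsg.Agent.H93.CJ Cfsg.Agent.H93.PReg Cfsg.Agent.H93.PReg.Orth

section field

variable {F L : Type} [Field F] [Finite F] [Field L] [Finite L] [Algebra F L]

omit [Finite F] in
theorem adjoin_eq_top {r : ℕ} {lam : L} (hlam : lam ≠ 0) (ho : orderOf lam = r)
    (h : ∀ i : ℕ, 0 < i → i < finrank F L → ¬ r ∣ Nat.card F ^ i - 1) : Algebra.adjoin F {lam} = ⊤ := by
  have hfd : FiniteDimensional F L := Module.Finite.of_finite
  set E := IntermediateField.adjoin F ({lam} : Set L) with hE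
  have hmem : lam ∈ E := IntermediateField.mem_adjoin_simple_self F _
  have hdvd : finrank F E * finrank E L = finrank F L := finrank_mul_finrank F E L
  have hpos : 0 < finrank F E := finrank_pos
  have hpos' : 0 < finrank E L := finrank_pos
  have hcE : Nat.card E = Nat.card F ^ finrank F E := Module.natCard_eq_pow_finrank (K := F) (V := E)
  have hpow : lam ^ (Nat.card E - 1) = 1 := by
    have : Fintype E := Fintype.ofFinite E
    have h1 := FiniteField.pow_card_sub_one_eq_one (⟨lam, hmem⟩ : E) (by
      intro h0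
      exact hlam (congrArg Subtype.val h0))
    rw [Nat.card_eq_fintype_card]
    exact congrArg Subtype.val h1
  have h3 : r ∣ Nat.card F ^ finrank F E - 1 := by
    rw [← ho, ← hcE]
    exact orderOf_dvd_of_pow_eq_one hpow
  have h4 : finrank F E = finrank F L := by
    have h5 : finrank F E ≤ finrank F L := by
      rw [← hdvd]
      exact Nat.le_mul_of_pos_right _ hpos'
    by_contra hne
    exact h _ hpos (lt_of_le_of_ne h5 hne) h3
  have h5 : E = ⊤ := IntermediateField.eq_of_le_of_finrank_eq le_top (by rw [IntermediateField.finrank_top', h4])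
  rw [← IntermediateField.adjoin_simple_toSubalgebra_of_isAlgebraic (IsAlgebraic.of_finite F lam), ← hE, h5]
  rfl

omit [Finite F] [Finite L] in
theorem eq_mul' {t : L} (h : Algebra.adjoin F {t} = ⊤) {q : L →ₗ[F] L} (hq : ∀ a, q (t * a) = t * q a) :
    ∀ a, q a = q 1 * a := by
  let S : Subalgebra F L :=
    { carrier := {s | ∀ a, q (s * a) = s * q a}
      mul_mem' := fun {s s'} hs hs' a => by rw [mul_assoc, hs, hs', mul_assoc]
      add_mem' := fun {s s'} hs hs' a => by rw [add_mul, map_add, hs, hs', add_mul]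
      algebraMap_mem' := fun c a => by
        rw [← Algebra.smul_def, map_smul, Algebra.smul_def] }
  have hS : S = ⊤ := by
    rw [eq_top_iff, ← h, Algebra.adjoin_le_iff, Set.singleton_subset_iff]
    exact hq
  intro a
  have h1 : a ∈ S := by rw [hS]; trivial
  have h2 := h1 1
  rwa [mul_one, mul_comm] at h2

omit [Finite F] in
/-- The torus element on a field. -/
theorem torU_minus {Q : QuadraticForm F L} {r : ℕ} {lam : L} (hlam : lam ≠ 0) (ho : orderOf lam = r)
    (h : ∀ i : ℕ, 0 < i → i < finrank F L → ¬ r ∣ Nat.card F ^ i - 1) (hQ : ∀ v, Q (lam * v) = Q v) :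
    TorU Q r (mulL F lam hlam) (LinearMap.id : L →ₗ[F] L) lam where
  inj := fun _ _ h => h
  memO := hQ
  eig := fun _ => rfl
  ord := ho
  cen := by
    intro t _ hc
    have h1 := eq_mul' (adjoin_eq_top hlam ho h) (q := t.toLinearMap) (fun a => LinearEquiv.congr_fun hc.eq a)
    have h2 : ∀ a, t a = t 1 * a := h1
    refine ⟨t 1, h1, ?_, ?_⟩
    · intro h3
      ext a
      rw [h2, h3, one_mul]
      rfl
    · intro h3 v hv
      rw [h2] at hv
      have h4 : (t 1 - 1) * v = 0 := by linear_combination hv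
      exact (mul_eq_zero.1 h4).resolve_left (sub_ne_zero.2 h3)

theorem tor_of_odd {r : ℕ} {lam : L} (hr : r.Prime) (hr2 : r ≠ 2) (hlam : lam ≠ 0) (ho : orderOf lam = r)
    (hodd : Odd (finrank F L))
    (h : ∀ i : ℕ, 0 < i → i < finrank F L → ¬ r ∣ Nat.card F ^ i - 1) : Tor F lam where
  ne := hlam
  gen := adjoin_eq_top hlam ho h
  inv := by
    intro σ hσ
    have hfd : FiniteDimensional F L := Module.Finite.of_finite
    have := Fintype.ofFinite F
    obtain ⟨i, rfl⟩ := (FiniteField.bijective_frobeniusAlgEquivOfAlgebraic_pow F L).2 σ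
    have hfr : ∀ (k : ℕ) (x : L), (FiniteField.frobeniusAlgEquivOfAlgebraic F L ^ k) x = x ^ Fintype.card F ^ k := by
      intro k x
      rw [AlgEquiv.coe_pow, FiniteField.coe_frobeniusAlgEquivOfAlgebraic, pow_iterate]
    have h2 : lam ^ (Fintype.card F ^ i.1 + 1) = 1 := by
      have h3 : lam ^ (Fintype.card F ^ i.1) = lam⁻¹ := by
        rw [← hfr]
        exact hσ
      rw [pow_succ, h3, inv_mul_cancel₀ hlam]
    have h3 : r ∣ Nat.card F ^ i.1 + 1 := by
      rw [← ho, Nat.card_eq_fintype_card]
      exact orderOf_dvd_of_pow_eq_one h2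
    have hF : 0 < Nat.card F := Nat.card_pos
    rcases Nat.eq_zero_or_pos i.1 with h0 | hpos
    · rw [h0, pow_zero] at h3
      exact hr2 ((Nat.prime_dvd_prime_iff_eq hr Nat.prime_two).1 h3)
    · -- the order of `|F|` modulo `r` is the degree
      have h4 : r ∣ Nat.card F ^ (2 * i.1) - 1 := by
        have h5 : Nat.card F ^ (2 * i.1) - 1 = (Nat.card F ^ i.1 + 1) * (Nat.card F ^ i.1 - 1) := by
          rw [mul_comm 2, pow_mul]
          have := Nat.sq_sub_sq (Nat.card F ^ i.1) 1
          simpa using this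
        rw [h5]
        exact Dvd.dvd.mul_right h3 _
      have hfull : r ∣ Nat.card F ^ finrank F L - 1 := by
        have hcL : Nat.card L = Nat.card F ^ finrank F L := Module.natCard_eq_pow_finrank (K := F) (V := L)
        rw [← hcL, ← ho]
        have : Fintype L := Fintype.ofFinite L
        rw [Nat.card_eq_fintype_card]
        exact orderOf_dvd_of_pow_eq_one (FiniteField.pow_card_sub_one_eq_one lam hlam)
      have hgcd : r ∣ Nat.card F ^ Nat.gcd (2 * i.1) (finrank F L) - 1 := by
        rw [← Nat.pow_sub_one_gcd_pow_sub_one]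
        exact Nat.dvd_gcd h4 hfull
      have hi := i.2
      have hg1 : 0 < Nat.gcd (2 * i.1) (finrank F L) := Nat.gcd_pos_of_pos_left _ (by omega)
      have hg2 : Nat.gcd (2 * i.1) (finrank F L) < finrank F L := by
        rcases Nat.lt_or_ge (Nat.gcd (2 * i.1) (finrank F L)) (finrank F L) with h6 | h6
        · exact h6
        · exfalso
          have h7 : Nat.gcd (2 * i.1) (finrank F L) = finrank F L :=
            le_antisymm (Nat.gcd_le_right _ (by omega)) h6
          have h8 : finrank F L ∣ 2 * i.1 := by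
            have := Nat.gcd_dvd_left (2 * i.1) (finrank F L)
            rwa [h7] at this
          have h9 : finrank F L ∣ i.1 := (Nat.Coprime.dvd_mul_left (Nat.coprime_two_right.2 hodd)).1 h8
          exact absurd (Nat.le_of_dvd hpos h9) (not_le.2 hi)
      exact h _ hg1 hg2 hgcd

/-- The torus element on `L × L`. -/
theorem torU_plus {r : ℕ} {lam : Lˣ} (hn : 2 ≤ finrank F L) (hT : Tor F (lam : L)) (ho : orderOf (lam : L) = r) :
    TorU (tq F L) r (dw lam) (LinearMap.inl F L L) (lam : L) where
  inj := LinearMap.inl_injective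
  memO := dw_mem_O lam
  eig := by
    intro l
    exact Prod.ext rfl (mul_zero _)
  ord := ho
  cen := by
    intro t ht hc
    have hfd : FiniteDimensional F L := Module.Finite.of_finite
    obtain ⟨α, h1⟩ : ∃ α : Lˣ, t = dw α := by
      have h1 : (t.prodCongr (LinearEquiv.refl F (F × F)) : VV F L ≃ₗ[F] VV F L) ∈ O (HQ (tq F L)) := by
        intro p
        show tq F L (t p.1) + p.2.1 * p.2.2 = tq F L p.1 + p.2.1 * p.2.2
        rw [ht]
      have h2 : (t.prodCongr (LinearEquiv.refl F (F × F)) : VV F L ≃ₗ[F] VV F L) * dg 1 lam =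
          dg 1 lam * t.prodCongr (LinearEquiv.refl F (F × F)) := by
        refine LinearEquiv.ext fun p => Prod.ext ?_ rfl
        exact LinearEquiv.congr_fun hc.eq p.1
      obtain ⟨α, ⟨c, h3⟩ | ⟨c, h3⟩⟩ := cent hn hT h1 h2
      · refine ⟨α, LinearEquiv.ext fun p => ?_⟩
        exact congrArg Prod.fst (LinearEquiv.congr_fun h3 (p, 0))
      · refine ⟨α, LinearEquiv.ext fun p => ?_⟩
        exact congrArg Prod.fst (LinearEquiv.congr_fun h3 (p, 0))
    refine ⟨α, ?_, ?_, ?_⟩
    · intro l
      rw [h1]
      exact Prod.ext rfl (mul_zero _)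
    · intro h2
      rw [h1]
      have h3 : α = 1 := Units.ext h2
      rw [h3]
      refine LinearEquiv.ext fun p => ?_
      rw [dw_apply]
      simp
    · intro h2 v hv
      rw [h1, dw_apply] at hv
      have e1 : (α : L) * v.1 = v.1 := congrArg Prod.fst hv
      have e2 : ((α⁻¹ : Lˣ) : L) * v.2 = v.2 := congrArg Prod.snd hv
      have h3 : ((α⁻¹ : Lˣ) : L) ≠ 1 := by
        intro h
        apply h2
        rw [← Units.val_one, Units.ext_iff.symm] at h ⊢
        exact inv_eq_one.1 h
      refine Prod.ext ?_ ?_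
      · have h4 : ((α : L) - 1) * v.1 = 0 := by linear_combination e1
        exact (mul_eq_zero.1 h4).resolve_left (sub_ne_zero.2 h2)
      · have h4 : (((α⁻¹ : Lˣ) : L) - 1) * v.2 = 0 := by linear_combination e2
        exact (mul_eq_zero.1 h4).resolve_left (sub_ne_zero.2 h3)

end field

/-- The norm torus. -/
theorem exists_torusM (F : Type) [Field F] [Fintype F] {k : ℕ} (hk : k ≠ 0) :
    ∃ (L : Type) (_ : Field L) (_ : Algebra F L) (_ : Finite L) (Q : QuadraticForm F L) (u : L),
      Sg Q k (-1) ∧ orderOf u = Fintype.card F ^ k + 1 ∧ ∀ v, Q (u * v) = Q v := by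
  obtain ⟨K, _, _, b, hKf, -, hK, -⟩ := Singer.exists_ext F k hk
  have := Fintype.ofFinite K
  obtain ⟨L, _, _, b', hLf, g, hL, hg⟩ := Singer.exists_ext K 2 two_ne_zero
  let _ : Algebra F L := ((algebraMap K L).comp (algebraMap F K)).toAlgebra
  have : IsScalarTower F K L := IsScalarTower.of_algebraMap_eq fun _ => rfl
  have hKc : Fintype.card K = Fintype.card F ^ k := by rw [← hK, Nat.card_eq_fintype_card]
  have hq : 2 ≤ Fintype.card K := Fintype.one_lt_card
  have hrk : Module.finrank F K = k := by rw [Module.finrank_eq_card_basis b, Fintype.card_fin]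
  have hs := (sg_normQ b').res (F := F)
  rw [hrk, mul_one] at hs
  have hnorm : Algebra.norm K ((g : L) ^ (Fintype.card K - 1)) = 1 := by
    rw [map_pow]
    apply FiniteField.pow_card_sub_one_eq_one
    rw [Ne, Algebra.norm_eq_zero_iff_of_basis b']
    exact g.ne_zero
  have ho : orderOf ((g : L) ^ (Fintype.card K - 1)) = Fintype.card F ^ k + 1 := by
    rw [← Units.val_pow_eq_pow_val, orderOf_units, orderOf_pow_of_dvd (by omega), hg, ← hKc]
    · have h1 : Fintype.card K ^ 2 - 1 = (Fintype.card K + 1) * (Fintype.card K - 1) := by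
        have := Nat.sq_sub_sq (Fintype.card K) 1
        simpa using this
      rw [h1, Nat.mul_div_cancel _ (by omega)]
    · rw [hg]
      simpa using Nat.sub_dvd_pow_sub_pow (Fintype.card K) 1 2
  refine ⟨L, inferInstance, inferInstance, inferInstance, traceForm F (normQ b'), _, hs, ho, ?_⟩
  intro v
  rw [traceForm_apply, traceForm_apply]
  congr 1
  rw [normQ_apply, normQ_apply, map_mul, hnorm, one_mul]

end Cfsg.Agent.H530.OZ
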