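import Mathlib
import Cfsg.Agent.Lib.Zsigmondy

/-!
# S4842: arithmetic for `POmega⁻` and `POmega⁺` (helper530)
-/

set_option autoImplicit false

namespace Cfsg.Agent.H530.OZ

/-- `r` is a primitive prime divisor of `p ^ n - 1`. -/
structure Prim (p n r : ℕ) : Prop where
  prime : r.Prime
  iff : ∀ m, r ∣ p ^ m - 1 ↔ n ∣ m
  dvd : n ∣ r - 1
  nd : ¬ r ∣ p

theorem exists_prim {p n : ℕ} (hp : 2 ≤ p) (hn : 3 ≤ n) (h6 : ¬ (p = 2 ∧ n = 6)) : ∃ r, Prim p n r := by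
  obtain ⟨r, h1, h2, h3, h4⟩ := Cfsg.Agent.Lib.Zsigmondy.exists_primitive (a := p) (n := n) hp (by omega)
    (by omega) h6
  exact ⟨r, h1, h2, h3, h4⟩

section

variable {p n r : ℕ}

/-- an odd prime -/
theorem Prim.two_lt (h : Prim p n r) (hn : 2 ≤ n) : 2 < r := by
  have h1 := Nat.le_of_dvd (by have := h.prime.two_le; omega) h.dvd
  omega

/-- `e = 1` -/
theorem Prim.pos (h : Prim p n r) (hp : 1 ≤ p) {m : ℕ} (hm : (r : ℤ) ∣ 1 * (p : ℤ) ^ m - (p : ℤ) ^ 0) : n ∣ m := by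
  rw [← h.iff]
  have h1 : 1 ≤ p ^ m := Nat.one_le_pow _ _ hp
  rw [← Int.natCast_dvd_natCast, Nat.cast_sub h1]
  push_cast
  rwa [one_mul, pow_zero] at hm

/-- `e = -1` -/
theorem Prim.neg (h : Prim p n r) (hn : 2 ≤ n) (hp : 1 ≤ p) {m : ℕ}
    (hm : (r : ℤ) ∣ -1 * (p : ℤ) ^ m - (p : ℤ) ^ 0) : n ∣ 2 * m ∧ ¬ n ∣ m := by
  have h1 : 1 ≤ p ^ m := Nat.one_le_pow _ _ hp
  have h2 : r ∣ p ^ m + 1 := by
    rw [← Int.natCast_dvd_natCast]
    push_cast
    have h3 : -1 * (p : ℤ) ^ m - (p : ℤ) ^ 0 = -((p : ℤ) ^ m + 1) := by ring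
    rw [h3] at hm
    exact (dvd_neg).1 hm
  have h3 := h.two_lt hn
  constructor
  · rw [← h.iff]
    have h4 : p ^ (2 * m) - 1 = (p ^ m + 1) * (p ^ m - 1) := by
      rw [mul_comm 2, pow_mul]
      have := Nat.sq_sub_sq (p ^ m) 1
      simpa using this
    rw [h4]
    exact Dvd.dvd.mul_right h2 _
  · rw [← h.iff]
    intro h4
    have h5 : r ∣ 2 := by
      have h6 := Nat.dvd_sub h2 h4
      have h7 : p ^ m + 1 - (p ^ m - 1) = 2 := by omega
      rwa [h7] at h6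
    have := Nat.le_of_dvd two_pos h5
    omega

/-- the group order -/
theorem Prim.not_dvd_pow (h : Prim p n r) (m : ℕ) : ¬ r ∣ p ^ m := fun h1 => h.nd (h.prime.dvd_of_dvd_pow h1)

end

/-- `POmega⁻`: no exponents -/
theorem end_minus {f n m r₁ r₂ p : ℕ} (hp : 1 ≤ p) (hf : 0 < f) (hn : 4 ≤ n) (h1 : Prim p (2 * n * f) r₁)
    (h2 : Prim p (2 * (n - 1) * f) r₂) (e : ℤ) (he : e = 1 ∨ e = -1) (hm : 0 < m) (hm' : m < 2 * (f * (n * (n - 1))))
    (c1 : (r₁ : ℤ) ∣ e * (p : ℤ) ^ m - (p : ℤ) ^ 0) (c2 : (r₂ : ℤ) ∣ e * (p : ℤ) ^ m - (p : ℤ) ^ 0) : False := by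
  obtain ⟨k, rfl⟩ : ∃ k, n = k + 1 := ⟨n - 1, by omega⟩
  rw [Nat.add_sub_cancel] at *
  have hcop : Nat.Coprime (k + 1) k := by simp
  rcases he with rfl | rfl
  · have d1 := h1.pos hp c1
    have d2 := h2.pos hp c2
    obtain ⟨x, hx⟩ : 2 * f ∣ m := dvd_trans ⟨k + 1, by ring⟩ d1
    subst hx
    have e1 : (k + 1) ∣ x := by
      apply Nat.dvd_of_mul_dvd_mul_left (k := 2 * f) (by omega)
      rwa [show 2 * f * (k + 1) = 2 * (k + 1) * f by ring]
    have e2 : k ∣ x := by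
      apply Nat.dvd_of_mul_dvd_mul_left (k := 2 * f) (by omega)
      rwa [show 2 * f * k = 2 * k * f by ring]
    have e3 : (k + 1) * k ∣ x := hcop.mul_dvd_of_dvd_of_dvd e1 e2
    have hx0 : 0 < x := Nat.pos_of_ne_zero (by rintro rfl; omega)
    have e4 := Nat.le_of_dvd hx0 e3
    have e5 : 2 * f * ((k + 1) * k) ≤ 2 * f * x := Nat.mul_le_mul_left _ e4
    have e6 : 2 * (f * ((k + 1) * k)) = 2 * f * ((k + 1) * k) := by ring
    omega
  · have hn1 : 2 ≤ 2 * (k + 1) * f := by nlinarith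
    have hn2 : 2 ≤ 2 * k * f := by nlinarith
    obtain ⟨d1, d1'⟩ := h1.neg hn1 hp c1
    obtain ⟨d2, d2'⟩ := h2.neg hn2 hp c2
    have e1 : (k + 1) * f ∣ m := by
      apply Nat.dvd_of_mul_dvd_mul_left (k := 2) (by omega)
      rwa [show 2 * ((k + 1) * f) = 2 * (k + 1) * f by ring]
    have e2 : k * f ∣ m := by
      apply Nat.dvd_of_mul_dvd_mul_left (k := 2) (by omega)
      rwa [show 2 * (k * f) = 2 * k * f by ring]
    obtain ⟨x, rfl⟩ := e1
    obtain ⟨y, hy⟩ := e2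
    have hxo : Odd x := by
      rw [← Nat.not_even_iff_odd]
      rintro ⟨z, rfl⟩
      exact d1' ⟨z, by ring⟩
    have hyo : Odd y := by
      rw [← Nat.not_even_iff_odd]
      rintro ⟨z, rfl⟩
      exact d2' ⟨z, by rw [hy]; ring⟩
    have h3 : (k + 1) * x = k * y := by
      apply Nat.eq_of_mul_eq_mul_left hf
      calc f * ((k + 1) * x) = (k + 1) * f * x := by ring
        _ = k * f * y := hy
        _ = f * (k * y) := by ring
    rcases Nat.even_or_odd k with hk | hk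
    · have h4 : Odd ((k + 1) * x) := hk.add_one.mul hxo
      rw [h3] at h4
      exact (Nat.not_odd_iff_even.2 (hk.mul_right y)) h4
    · have h4 : Even ((k + 1) * x) := (hk.add_one).mul_right x
      rw [h3] at h4
      exact (Nat.not_even_iff_odd.2 (hk.mul hyo)) h4

/-- `POmega⁻_8(2)` -/
theorem end_exc {m r₁ : ℕ} (h1 : Prim 2 8 r₁) (e : ℤ) (he : e = 1 ∨ e = -1) (hm : 0 < m) (hm' : m < 24)
    (c1 : (r₁ : ℤ) ∣ e * ((2 : ℕ) : ℤ) ^ m - ((2 : ℕ) : ℤ) ^ 0)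
    (c2 : ((7 : ℕ) : ℤ) ∣ e * ((2 : ℕ) : ℤ) ^ m - ((2 : ℕ) : ℤ) ^ 0) : False := by
  have h7 : ∀ j : ℕ, (2 : ℤ) ^ (3 * j) ≡ 1 [ZMOD 7] := by
    intro j
    rw [pow_mul]
    have h8 : (2 : ℤ) ^ 3 ≡ 1 [ZMOD 7] := by decide
    calc ((2 : ℤ) ^ 3) ^ j ≡ 1 ^ j [ZMOD 7] := h8.pow j
      _ = 1 := one_pow j
  obtain ⟨j, i, hi, rfl⟩ : ∃ j i, i < 3 ∧ m = 3 * j + i := ⟨m / 3, m % 3, Nat.mod_lt _ (by norm_num), (Nat.div_add_mod m 3).symm⟩
  have h9 : (2 : ℤ) ^ (3 * j + i) ≡ 2 ^ i [ZMOD 7] := by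
    rw [pow_add]
    calc (2 : ℤ) ^ (3 * j) * 2 ^ i ≡ 1 * 2 ^ i [ZMOD 7] := (h7 j).mul_right _
      _ = 2 ^ i := one_mul _
  have hc : e * (2 : ℤ) ^ i ≡ 1 [ZMOD 7] := by
    have h10 : (1 : ℤ) ≡ e * 2 ^ (3 * j + i) [ZMOD 7] := by
      apply Int.modEq_iff_dvd.2
      push_cast at c2
      exact c2
    exact (h9.mul_left e).symm.trans h10.symm
  rcases he with rfl | rfl
  · have hi0 : i = 0 := by
      interval_cases i
      · rfl
      · exact absurd hc (by decide)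
      · exact absurd hc (by decide)
    subst hi0
    have d1 := h1.pos (by norm_num) c1
    omega
  · interval_cases i
    · exact absurd hc (by decide)
    · exact absurd hc (by decide)
    · exact absurd hc (by decide)

/-- `POmega⁺`, `n` odd: no exponents -/
theorem end_plus {f n m r₁ r₂ p : ℕ} (hp : 1 ≤ p) (hf : 0 < f) (hn : 5 ≤ n) (hodd : Odd n) (h1 : Prim p (n * f) r₁)
    (h2 : Prim p (2 * (n - 1) * f) r₂) (e : ℤ) (he : e = 1 ∨ e = -1) (hm : 0 < m) (hm' : m < 2 * (f * (n * (n - 1))))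
    (c1 : (r₁ : ℤ) ∣ e * (p : ℤ) ^ m - (p : ℤ) ^ 0) (c2 : (r₂ : ℤ) ∣ e * (p : ℤ) ^ m - (p : ℤ) ^ 0) : False := by
  have hcop : Nat.Coprime n (2 * (n - 1)) := by
    refine Nat.Coprime.mul_right (Nat.coprime_two_right.2 hodd) ?_
    obtain ⟨k, rfl⟩ : ∃ k, n = k + 1 := ⟨n - 1, by omega⟩
    rw [Nat.add_sub_cancel]
    simp
  rcases he with rfl | rfl
  · have d1 := h1.pos hp c1
    have d2 := h2.pos hp c2
    obtain ⟨x, hx⟩ : f ∣ m := dvd_trans ⟨n, by ring⟩ d1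
    subst hx
    have e1 : n ∣ x := by
      apply Nat.dvd_of_mul_dvd_mul_left (k := f) hf
      rwa [show f * n = n * f by ring]
    have e2 : 2 * (n - 1) ∣ x := by
      apply Nat.dvd_of_mul_dvd_mul_left (k := f) hf
      rwa [show f * (2 * (n - 1)) = 2 * (n - 1) * f by ring]
    have e3 : n * (2 * (n - 1)) ∣ x := hcop.mul_dvd_of_dvd_of_dvd e1 e2
    have hx0 : 0 < x := Nat.pos_of_ne_zero (by rintro rfl; omega)
    have e4 := Nat.le_of_dvd hx0 e3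
    have e5 : f * (n * (2 * (n - 1))) ≤ f * x := Nat.mul_le_mul_left _ e4
    have e6 : 2 * (f * (n * (n - 1))) = f * (n * (2 * (n - 1))) := by ring
    omega
  · have hn1 : 2 ≤ n * f := by nlinarith
    have hn2 : 2 ≤ 2 * (n - 1) * f := by
      have : 1 ≤ (n - 1) * f := Nat.mul_pos (by omega) hf
      nlinarith
    obtain ⟨d1, d1'⟩ := h1.neg hn1 hp c1
    obtain ⟨d2, d2'⟩ := h2.neg hn2 hp c2
    have e2 : (n - 1) * f ∣ m := by
      apply Nat.dvd_of_mul_dvd_mul_left (k := 2) (by omega)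
      rwa [show 2 * ((n - 1) * f) = 2 * (n - 1) * f by ring]
    obtain ⟨y, rfl⟩ := e2
    have e3 : n ∣ 2 * (n - 1) * y := by
      apply Nat.dvd_of_mul_dvd_mul_left (k := f) hf
      rw [show f * n = n * f by ring, show f * (2 * (n - 1) * y) = 2 * ((n - 1) * f * y) by ring]
      exact d1
    have e4 : n ∣ y := hcop.dvd_of_dvd_mul_left e3
    obtain ⟨z, rfl⟩ := e4
    exact d1' ⟨(n - 1) * z, by ring⟩

/-- the exponent of `p` -/
theorem fac_eq {p f a d c w : ℕ} (hp : p.Prime) (hd : ¬ p ∣ d) (hw : ¬ p ∣ w) (hc : c ≠ 0)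
    (h : d * c = (p ^ f) ^ a * w) : c.factorization p = f * a := by
  have hd0 : d ≠ 0 := by rintro rfl; exact hd (dvd_zero p)
  have hw0 : w ≠ 0 := by rintro rfl; exact hw (dvd_zero p)
  have h1 : (d * c).factorization p = ((p ^ f) ^ a * w).factorization p := by rw [h]
  rw [Nat.factorization_mul hd0 hc, Nat.factorization_mul (pow_ne_zero _ (pow_ne_zero _ hp.ne_zero)) hw0,
    Finsupp.add_apply, Finsupp.add_apply, Nat.factorization_eq_zero_of_not_dvd hd,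
    Nat.factorization_eq_zero_of_not_dvd hw, ← pow_mul, hp.factorization_pow, Finsupp.single_eq_same] at h1
  omega

theorem not_dvd_pow_sub {p i : ℕ} (hp : p.Prime) (hi : 0 < i) : ¬ p ∣ p ^ i - 1 := by
  intro h
  have h1 : p ∣ p ^ i := dvd_pow_self p hi.ne'
  have h2 : 1 ≤ p ^ i := Nat.one_le_pow _ _ hp.pos
  have h3 := Nat.dvd_sub h1 h
  rw [Nat.sub_sub_self h2] at h3
  exact hp.one_lt.ne' (Nat.dvd_one.1 h3)

theorem not_dvd_pow_add {p i : ℕ} (hp : p.Prime) (hi : 0 < i) : ¬ p ∣ p ^ i + 1 := by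
  intro h
  have h1 : p ∣ p ^ i := dvd_pow_self p hi.ne'
  exact hp.one_lt.ne' (Nat.dvd_one.1 ((Nat.dvd_add_right h1).1 h))

/-- the largest prime does not divide the order -/
theorem Prim.not_dvd_prod {p f n R : ℕ} (hR : Prim p (2 * (f * (n * (n - 1)))) R) (hf : 0 < f) (hn : 4 ≤ n) :
    ¬ R ∣ ∏ i ∈ Finset.range (n - 1), ((p ^ f) ^ (2 * (i + 1)) - 1) := by
  intro h
  obtain ⟨i, hi, h1⟩ := (hR.prime.prime.dvd_finsetProd_iff _).1 h
  rw [Finset.mem_range] at hi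
  rw [← pow_mul, hR.iff] at h1
  have h2 : n * (n - 1) ∣ i + 1 := by
    apply Nat.dvd_of_mul_dvd_mul_left (k := 2 * f) (by omega)
    rw [show 2 * f * (n * (n - 1)) = 2 * (f * (n * (n - 1))) by ring]
    rwa [show 2 * f * (i + 1) = f * (2 * (i + 1)) by ring]
  have h3 := Nat.le_of_dvd (by omega) h2
  have h4 : 4 * (n - 1) ≤ n * (n - 1) := Nat.mul_le_mul_right _ hn
  omega

theorem Prim.not_dvd_mid {p f n R : ℕ} (hR : Prim p (2 * (f * (n * (n - 1)))) R) (hf : 0 < f) (hn : 4 ≤ n) :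
    ¬ R ∣ (p ^ f) ^ (2 * n) - 1 := by
  intro h1
  rw [← pow_mul, hR.iff] at h1
  have h2 : n * (n - 1) ∣ n := by
    apply Nat.dvd_of_mul_dvd_mul_left (k := 2 * f) (by omega)
    rw [show 2 * f * (n * (n - 1)) = 2 * (f * (n * (n - 1))) by ring]
    rwa [show 2 * f * n = f * (2 * n) by ring]
  have h3 := Nat.le_of_dvd (by omega) h2
  have h4 : n * 3 ≤ n * (n - 1) := Nat.mul_le_mul_left _ (by omega)
  omega

/-- the orders -/
theorem order_facts {p f n c d w : ℕ} (hp : p.Prime) (hf : 0 < f) (hn : 4 ≤ n) (hc : c ≠ 0)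
    (hd : ¬ p ∣ d) (hw : ¬ p ∣ w) (hw2 : w ∣ (p ^ f) ^ (2 * n) - 1)
    (h : d * c = (p ^ f) ^ (n * (n - 1)) * w * ∏ i ∈ Finset.range (n - 1), ((p ^ f) ^ (2 * (i + 1)) - 1)) :
    c.factorization p = f * (n * (n - 1)) ∧ ¬ p ^ (2 * (f * (n * (n - 1)))) - 1 ∣ c := by
  constructor
  · refine fac_eq hp hd ?_ hc (h.trans (mul_assoc _ _ _))
    intro h1
    rcases hp.dvd_mul.1 h1 with h2 | h2
    · exact hw h2
    · obtain ⟨i, hi, h3⟩ := (hp.prime.dvd_finsetProd_iff _).1 h2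
      rw [← pow_mul] at h3
      exact not_dvd_pow_sub hp (Nat.mul_pos hf (by omega)) h3
  · intro h1
    have h12 : 12 ≤ n * (n - 1) := Nat.mul_le_mul hn (by omega : 3 ≤ n - 1)
    have hv : 12 ≤ f * (n * (n - 1)) := h12.trans (Nat.le_mul_of_pos_left _ hf)
    obtain ⟨R, hR⟩ := exists_prim (p := p) (n := 2 * (f * (n * (n - 1)))) hp.two_le (by omega) (by omega)
    have h2 : R ∣ c := ((hR.iff _).2 dvd_rfl).trans h1
    have h3 : R ∣ d * c := Dvd.dvd.mul_left h2 d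
    rw [h] at h3
    rcases hR.prime.dvd_mul.1 h3 with h4 | h4
    · rcases hR.prime.dvd_mul.1 h4 with h5 | h5
      · rw [← pow_mul] at h5
        exact hR.not_dvd_pow _ h5
      · exact hR.not_dvd_mid hf hn (h5.trans hw2)
    · exact hR.not_dvd_prod hf hn h4

end Cfsg.Agent.H530.OZ
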