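import Cfsg.Agent.H530.OZ.Geo
import Cfsg.Agent.H530.OZ.Arith
import Cfsg.Agent.H732.VZ.Bridge
import Cfsg.Agent.H730.OZ.Top
import Cfsg.Agent.H730.OZ.Asm
import Cfsg.Agent.Nodes.WittInst
import Cfsg.Agent.S0293
import Cfsg.Agent.S0294

/-!
# S4842: the rows `POmega⁻_{2n}` and `POmega⁺_{2n}`, `n` odd (helper530)
-/

set_option autoImplicit false

namespace Cfsg.Agent.H530.OZ

open Cfsg Cfsg.Agent.H730.OZ Cfsg.Agent.LieClassical.OrthForms Cfsg.Agent.H182.Sign Cfsg.Agent.H182.Orth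
open Cfsg.Agent.Nodes.RGDChev

universe u

theorem IsoAt.cong {S : Type u} [Group S] [Finite S] {p r : ℕ} (hp : p.Prime) (hr : r.Prime) (hne : r ≠ p)
    (h : IsoAt p r S) : Cong p r 0 S := by
  refine Cfsg.Agent.H732.VZ.cong_of_iso hp ⟨hr, hne, ?_⟩
  obtain ⟨z, h1, h2, h3, h4, h5⟩ := h
  refine ⟨z, h1, h2, fun y hy _ => h3 y hy, ?_, ?_⟩
  · rintro v hv ⟨k, hk⟩
    rcases k with _ | k
    · rw [pow_zero] at hk
      exact orderOf_eq_one_iff.1 hk
    · exact absurd (hk ▸ dvd_pow_self p (Nat.succ_ne_zero k)) (h4 v hv)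
  · by_contra hcon
    push Not at hcon
    exact h5 ⟨hcon.1, fun m hm => hcon.2 m hm⟩

/-- conditions from a primitive prime -/
theorem Prim.conds {p f k r : ℕ} (hf : 0 < f) (hr : Prim p (2 * k * f) r) :
    r ∣ (p ^ f) ^ k + 1 ∧ ∀ i : ℕ, 0 < i → i < 2 * k → ¬ r ∣ (p ^ f) ^ i - 1 := by
  have h2 : ∀ i : ℕ, 0 < i → i < 2 * k → ¬ r ∣ (p ^ f) ^ i - 1 := by
    intro i hi hik h
    rw [← pow_mul, hr.iff] at h
    have h3 := Nat.le_of_dvd (Nat.mul_pos hf hi) h
    have h4 : f * i < f * (2 * k) := Nat.mul_lt_mul_of_pos_left hik hf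
    have h5 : 2 * k * f = f * (2 * k) := by ring
    omega
  refine ⟨?_, h2⟩
  have h3 : r ∣ (p ^ f) ^ (2 * k) - 1 := by
    rw [← pow_mul, hr.iff]
    exact ⟨1, by ring⟩
  have h4 : (p ^ f) ^ (2 * k) - 1 = ((p ^ f) ^ k + 1) * ((p ^ f) ^ k - 1) := by
    rw [mul_comm 2, pow_mul]
    have := Nat.sq_sub_sq ((p ^ f) ^ k) 1
    simpa using this
  rw [h4] at h3
  rcases hr.prime.dvd_mul.1 h3 with h5 | h5
  · exact h5
  · exfalso
    rcases Nat.eq_zero_or_pos k with rfl | hk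
    · have := hr.dvd
      rw [mul_zero, zero_mul, zero_dvd_iff] at this
      have := hr.prime.two_le
      omega
    · exact h2 k hk (by omega) h5

theorem Prim.ne {p n r : ℕ} (hr : Prim p n r) : r ≠ p := by
  rintro rfl
  exact hr.nd dvd_rfl

/-- **The row `POmega⁻`** -/
theorem row_minus_of_kaw {S : Type u} [Group S] [Finite S] (hs : IsSimpleGroup S) (h : IsPOmegaMinus S)
    (hKaw : ∀ p : ℕ, p.Prime → HasRGD p S → Kaw p S) : Row S := by
  obtain ⟨F, _, _, n, a, b, hn, hab, ⟨e⟩⟩ := h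
  obtain ⟨p, hch⟩ := CharP.exists F
  obtain ⟨⟨f, hf⟩, hp, hcard⟩ := FiniteField.card F p
  simp only [PNat.mk_coe] at hcard
  have hpf : Fact p.Prime := ⟨hp⟩
  have hKS : Kaw p S := hKaw p hp
    ((Cfsg.Agent.Nodes.WittInst.hasRGD_PO_minus a b hab (m := n - 1) (by omega)).of_equiv e.symm)
  have hab' : Cfsg.Agent.H403.Classify.Aniso a b := hab
  have hS0 := S0294.result hcard n hn a b hab
  have hcS : Nat.card (POmega F (quadFormMinus (n - 1) F a b)) = Nat.card S := (Nat.card_congr e.toEquiv).symm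
  rw [hcS] at hS0
  have hfn : 0 < f * n := Nat.mul_pos hf (by omega)
  obtain ⟨ho1, ho2⟩ := order_facts hp hf hn (Nat.card_pos (α := S)).ne' (d := Nat.gcd 4 ((p ^ f) ^ n + 1))
    (w := (p ^ f) ^ n + 1) (fun h => not_dvd_pow_add hp hfn (by rw [pow_mul]; exact h.trans (Nat.gcd_dvd_right _ _)))
    (fun h => not_dvd_pow_add hp hfn (by rw [pow_mul]; exact h)) (by
      have h4 : (p ^ f) ^ (2 * n) - 1 = ((p ^ f) ^ n + 1) * ((p ^ f) ^ n - 1) := by
        rw [mul_comm 2, pow_mul]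
        have := Nat.sq_sub_sq ((p ^ f) ^ n) 1
        simpa using this
      rw [h4]
      exact Dvd.intro _ rfl) hS0
  have i : POmega F ⇑(minusForm (n - 1) F a b) ≃* S := by
    rw [coe_minusForm]
    exact e.symm
  have hR : Sg (minusForm (n - 1) F a b) (n + 0) (-1 * 1) := by
    have h1 := sg_minusForm (n - 1) hab'
    rw [show n - 1 + 1 = n by omega] at h1
    simpa using h1
  have hn12 : 12 ≤ n * (n - 1) := Nat.mul_le_mul hn (by omega : 3 ≤ n - 1)
  have hnf : 4 ≤ n * f := hn.trans (Nat.le_mul_of_pos_right _ hf)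
  have hnf' : 3 ≤ (n - 1) * f := (by omega : 3 ≤ n - 1).trans (Nat.le_mul_of_pos_right _ hf)
  -- the first prime
  obtain ⟨r₁, hr₁⟩ := exists_prim (p := p) (n := 2 * n * f) hp.two_le (by rw [mul_assoc]; omega) (by
    rw [mul_assoc]; omega)
  have hc₁ : Cong p r₁ 0 S := by
    obtain ⟨h1, h2⟩ := hr₁.conds hf
    exact IsoAt.cong hp hr₁.prime hr₁.ne (isoM (p := p) (k := n) (sg_zero F) (Or.inl rfl) (by omega) (fun _ => hn)
      hR i hr₁.prime (by rw [hcard]; exact h1) (by rw [hcard]; exact h2))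
  refine Row.of_none fun χ hχ => ?_
  by_cases hex : p = 2 ∧ 2 * (n - 1) * f = 6
  · -- `POmega⁻_8(2)`
    obtain ⟨rfl, h6⟩ := hex
    have h7 : (n - 1) * f = 3 := by rw [mul_assoc] at h6; omega
    have hn4 : n = 4 := by
      by_contra hne
      have h8 : 4 * 1 ≤ (n - 1) * f := Nat.mul_le_mul (by omega) hf
      omega
    subst hn4
    have hf1 : f = 1 := by omega
    subst hf1
    have hc₂ : Cong 2 7 0 S := by
      refine IsoAt.cong hp (by norm_num) (by norm_num) (isoE (F := F) (p := 2) (by rw [hcard]; norm_num) ?_ i)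
      have h1 := hR
      simpa using h1
    refine none_of_cong hs hp ho1 (by norm_num) hKS ho2 ?_ hχ
    intro m ε hε hm hm' hcong
    exact end_exc (r₁ := r₁) hr₁ ε hε hm (by simpa using hm') (hcong r₁ 0 hc₁) (hcong 7 0 hc₂)
  · obtain ⟨r₂, hr₂⟩ := exists_prim (p := p) (n := 2 * (n - 1) * f) hp.two_le (by rw [mul_assoc]; omega) hex
    have hc₂ : Cong p r₂ 0 S := by
      obtain ⟨h1, h2⟩ := hr₂.conds hf
      refine IsoAt.cong hp hr₂.prime hr₂.ne (isoM (p := p) (k := n - 1) (sg_hypForm (F := F)) (Or.inr rfl) (by omega)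
        (fun h => absurd h one_ne_zero) ?_ i hr₂.prime (by rw [hcard]; exact h1) (by rw [hcard]; exact h2))
      rw [show n - 1 + 1 = n by omega]
      simpa using hR
    refine none_of_cong hs hp ho1 (Nat.mul_pos hf (by omega)).ne' hKS ho2 ?_ hχ
    intro m ε hε hm hm' hcong
    exact end_minus hp.one_le hf hn hr₁ hr₂ ε hε hm hm' (hcong r₁ 0 hc₁) (hcong r₂ 0 hc₂)

/-- **The row `POmega⁺_{2n}`, `n` odd** -/
theorem row_plus_of_kaw {S : Type u} [Group S] [Finite S] (hs : IsSimpleGroup S) {F : Type} [Field F] [Fintype F]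
    {n : ℕ} (hn : 4 ≤ n) (hodd : Odd n) (e : S ≃* POmega F (quadFormPlus n F))
    (hKaw : ∀ p : ℕ, p.Prime → HasRGD p S → Kaw p S) : Row S := by
  have hn5 : 5 ≤ n := by
    rcases Nat.eq_or_lt_of_le hn with h | h
    · subst h
      exact absurd hodd (by decide)
    · exact h
  obtain ⟨p, hch⟩ := CharP.exists F
  obtain ⟨⟨f, hf⟩, hp, hcard⟩ := FiniteField.card F p
  simp only [PNat.mk_coe] at hcard
  have hpf : Fact p.Prime := ⟨hp⟩
  have hKS : Kaw p S := by
    refine hKaw p hp ?_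
    obtain ⟨k, rfl⟩ : ∃ k, n = k + 3 := ⟨n - 3, by omega⟩
    exact (Cfsg.Agent.Nodes.WittInst.hasRGD_PO_plus k).of_equiv e.symm
  have hS0 := S0293.result hcard n hn
  have hcS : Nat.card (POmega F (quadFormPlus n F)) = Nat.card S := (Nat.card_congr e.toEquiv).symm
  rw [hcS] at hS0
  have hfn : 0 < f * n := Nat.mul_pos hf (by omega)
  obtain ⟨ho1, ho2⟩ := order_facts hp hf hn (Nat.card_pos (α := S)).ne' (d := Nat.gcd 4 ((p ^ f) ^ n - 1))
    (w := (p ^ f) ^ n - 1) (fun h => not_dvd_pow_sub hp hfn (by rw [pow_mul]; exact h.trans (Nat.gcd_dvd_right _ _)))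
    (fun h => not_dvd_pow_sub hp hfn (by rw [pow_mul]; exact h)) (by
      have h4 : (p ^ f) ^ (2 * n) - 1 = ((p ^ f) ^ n + 1) * ((p ^ f) ^ n - 1) := by
        rw [mul_comm 2, pow_mul]
        have := Nat.sq_sub_sq ((p ^ f) ^ n) 1
        simpa using this
      rw [h4]
      exact Dvd.intro_left _ rfl) hS0
  have i : POmega F ⇑(plusForm n F) ≃* S := by
    rw [coe_plusForm]
    exact e.symm
  have hR : Sg (plusForm n F) n 1 := sg_plusForm n
  have hn12 : 12 ≤ n * (n - 1) := Nat.mul_le_mul hn (by omega : 3 ≤ n - 1)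
  have hnf : 5 ≤ n * f := hn5.trans (Nat.le_mul_of_pos_right _ hf)
  have hnf' : 4 ≤ (n - 1) * f := (by omega : 4 ≤ n - 1).trans (Nat.le_mul_of_pos_right _ hf)
  -- the first prime
  obtain ⟨r₁, hr₁⟩ := exists_prim (p := p) (n := n * f) hp.two_le (by omega) (by
    rintro ⟨-, h6⟩
    have h7 : n ∣ 6 := ⟨f, h6.symm⟩
    have h8 : n ≤ 6 := Nat.le_of_dvd (by norm_num) h7
    interval_cases n
    · omega
    · exact absurd hodd (by decide))
  have hc₁ : Cong p r₁ 0 S := by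
    refine IsoAt.cong hp hr₁.prime hr₁.ne (isoP (p := p) hn5 hodd hR i hr₁.prime ?_ ?_)
    · rw [hcard, ← pow_mul, hr₁.iff]
      exact ⟨1, by ring⟩
    · intro j hj hjn
      rw [hcard, ← pow_mul, hr₁.iff]
      intro h1
      have h3 := Nat.le_of_dvd (Nat.mul_pos hf hj) h1
      have h4 : f * j < f * n := Nat.mul_lt_mul_of_pos_left hjn hf
      have h5 : n * f = f * n := mul_comm _ _
      omega
  obtain ⟨r₂, hr₂⟩ := exists_prim (p := p) (n := 2 * (n - 1) * f) hp.two_le (by rw [mul_assoc]; omega) (by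
    rw [mul_assoc]; omega)
  have hc₂ : Cong p r₂ 0 S := by
    obtain ⟨h1, h2⟩ := hr₂.conds hf
    obtain ⟨L, _, _, _, Q', u, hQ', -, -⟩ := exists_torusM F (k := 1) one_ne_zero
    refine IsoAt.cong hp hr₂.prime hr₂.ne (isoM (p := p) (k := n - 1) hQ' (Or.inr rfl) (by omega)
      (fun h => absurd h one_ne_zero) ?_ i hr₂.prime (by rw [hcard]; exact h1) (by rw [hcard]; exact h2))
    rw [show n - 1 + 1 = n by omega]
    simpa using hR
  refine Row.of_none fun χ hχ => ?_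
  refine none_of_cong hs hp ho1 (Nat.mul_pos hf (by omega)).ne' hKS ho2 ?_ hχ
  intro m ε hε hm hm' hcong
  exact end_plus hp.one_le hf hn5 hodd hr₁ hr₂ ε hε hm hm' (hcong r₁ 0 hc₁) (hcong r₂ 0 hc₂)

end Cfsg.Agent.H530.OZ
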