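import Cfsg.Agent.H530.OZ.Tori

/-!
# S4842: isolated primes of `POmega⁻` and `POmega⁺` (helper530)

* `isoM` : a prime dividing `q ^ k + 1` and no `q ^ i - 1`, `i < 2k`, in dimension `2k` or `2k + 2`;
* `isoP` : a prime dividing `q ^ k - 1`, `k` odd, and no `q ^ i - 1`, `i < k`, in dimension `2k` (sign `+`).
-/

set_option autoImplicit false

namespace Cfsg.Agent.H530.OZ

open Module QuadraticMap Cfsg Subgroup
open Cfsg.Agent.LieClassical.OrthCore Cfsg.Agent.LieClassical.OrthTrans Cfsg.Agent.H890.SpParity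
open Cfsg.Agent.LieClassical.OrthFinite
open Cfsg.Agent.H182.Sign Cfsg.Agent.H182.Orth Cfsg.Agent.H530.CJ Cfsg.Agent.H93.CJ Cfsg.Agent.H93.PReg

section num

theorem num1 {k : ℕ} (hk : 4 ≤ k) : 2 * k + 2 < 2 ^ k := by
  induction k, hk using Nat.le_induction with
  | base => norm_num
  | succ k hk ih => rw [pow_succ]; omega

theorem num2 {k : ℕ} (hk : 3 ≤ k) : 4 * k + 5 < 3 ^ k := by
  induction k, hk using Nat.le_induction with
  | base => norm_num
  | succ k hk ih => rw [pow_succ]; omega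

theorem num3 {k : ℕ} (hk : 4 ≤ k) : 8 * k + 5 < 3 ^ k := by
  induction k, hk using Nat.le_induction with
  | base => norm_num
  | succ k hk ih => rw [pow_succ]; omega

/-- odd divisors of `2 ^ a r` -/
theorem dvd_of_even {q k r : ℕ} (hk : 0 < k) (hq : Even q) {a : ℕ} (h : q ^ k + 1 ∣ 2 ^ a * r) : q ^ k + 1 ∣ r := by
  refine Nat.Coprime.dvd_of_dvd_mul_left ?_ h
  refine Nat.Coprime.pow_right a ?_
  rw [Nat.coprime_two_right]
  exact (hq.pow_of_ne_zero hk.ne').add_one

theorem numM {q k j r : ℕ} (hq : 2 ≤ q) (hk : 3 ≤ k) (hj : j = 0 ∨ j = 1) (hkj : j = 0 → 4 ≤ k) (hr : r.Prime)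
    (hle : r ≤ 2 * (k + j) + 1) (h4 : q ^ k + 1 ∣ 4 * r) (h2 : j = 1 → q ^ k + 1 ∣ 2 * r) : False := by
  have hr0 : 0 < r := hr.pos
  have hq2 : 2 ^ k ≤ q ^ k := Nat.pow_le_pow_left hq k
  rcases Nat.even_or_odd q with he | ho
  · have h5 : q ^ k + 1 ∣ r := dvd_of_even (a := 2) (by omega) he h4
    have h6 := Nat.le_of_dvd hr0 h5
    rcases Nat.lt_or_ge k 4 with hk4 | hk4
    · obtain rfl : k = 3 := by omega
      have hj1 : j = 1 := by omega
      have hq8 : q = 2 := by
        by_contra hne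
        have h7 : 3 ≤ q := by omega
        have h8 : 3 ^ 3 ≤ q ^ 3 := Nat.pow_le_pow_left h7 3
        omega
      subst hq8
      have h9 : r = 9 := by omega
      rw [h9] at hr
      exact absurd hr (by norm_num)
    · have := num1 hk4
      omega
  · have hq3 : 3 ≤ q := by
      rcases ho with ⟨m, hm⟩
      omega
    have h7 : 3 ^ k ≤ q ^ k := Nat.pow_le_pow_left hq3 k
    rcases hj with rfl | rfl
    · have := num3 (hkj rfl)
      have := Nat.le_of_dvd (by omega) h4
      omega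
    · have := num2 hk
      have := Nat.le_of_dvd (by omega) (h2 rfl)
      omega

theorem numP {q k r : ℕ} (hq : 2 ≤ q) (hk : 5 ≤ k) (hr : r.Prime)
    (hle : r ≤ 2 * k + 1) (h4 : q ^ k - 1 ∣ 4 * r) : False := by
  have hr0 : 0 < r := hr.pos
  have hq2 : 2 ^ k ≤ q ^ k := Nat.pow_le_pow_left hq k
  have h1 := num1 (k := k) (by omega)
  rcases Nat.even_or_odd q with he | ho
  · have h5 : q ^ k - 1 ∣ r := by
      refine Nat.Coprime.dvd_of_dvd_mul_left (m := 4) ?_ h4
      refine Nat.Coprime.pow_right (m := 2) 2 ?_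
      rw [Nat.coprime_two_right]
      exact Nat.Even.sub_odd (by omega) (he.pow_of_ne_zero (by omega)) odd_one
    have h6 := Nat.le_of_dvd hr0 h5
    omega
  · have hq3 : 3 ≤ q := by
      rcases ho with ⟨m, hm⟩
      omega
    have h7 : 3 ^ k ≤ q ^ k := Nat.pow_le_pow_left hq3 k
    have := num3 (k := k) (by omega)
    have := Nat.le_of_dvd (by omega) h4
    omega

end num

section cover

variable {F : Type} [Field F] [Finite F] {V : Type} [AddCommGroup V] [Module F V] [Finite V]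
  {Q : QuadraticForm F V} {n : ℕ} {ε : ℤ}

theorem exists_pi' (hQ : Sg Q n ε) (hn : 3 ≤ n) {ι : Type} [Fintype ι] [DecidableEq ι] {R : QuadraticForm F (ι → F)}
    (hR : Sg R n ε) {S : Type*} [Group S] (i : POmega F ⇑R ≃* S) :
    Good Q ∧ ∃ π : E Q →* S, Function.Surjective π ∧
      ∀ z : E Q, z ∈ π.ker ↔ ∃ a : F, ∀ v, (z : V ≃ₗ[F] V) v = a • v := by
  have hGQ : Good Q := good_of_finite hQ.nondeg (by rw [hQ.dim]; omega)
  have hGR : Good R := good_of_finite hR.nondeg (by rw [hR.dim]; omega)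
  obtain ⟨e, he⟩ := hR.exists_equiv hQ
  have hGR' : Good ((1 : F) • R) := by rwa [one_smul]
  exact ⟨hGQ, exists_pi hGR hGR' e one_ne_zero (fun u => by rw [he, one_mul]) hGQ i⟩

end cover

section M

variable {F : Type} [Field F] [Fintype F] {U P : Type} [AddCommGroup U] [Module F U] [Finite U] [AddCommGroup P]
  [Module F P] [Finite P] {Q : QuadraticForm F U} {Q' : QuadraticForm F P}

omit [Fintype F] in
theorem sq_mem [Finite F] (hG : Good (prodForm Q Q')) {t : U ≃ₗ[F] U} (ht : t ∈ O Q) :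
    zz P (t ^ 2) ∈ E (prodForm Q Q') := by
  have h1 := Cfsg.Agent.ETable.Orth.sq_mem_E hG (zz_mem_O (Q' := Q') ht)
  rwa [← pow_two, zz_pow] at h1

omit [Fintype F] in
theorem mem_of_odd [Finite F] (hG : Good (prodForm Q Q')) {t : U ≃ₗ[F] U} (ht : t ∈ O Q) {r : ℕ} (hr : Odd r)
    (h : t ^ r = 1) : zz P t ∈ E (prodForm Q Q') := by
  obtain ⟨m, hm⟩ := hr
  have h1 : t = (t ^ (m + 1)) ^ 2 := by
    rw [← pow_mul, show (m + 1) * 2 = r + 1 by omega, pow_succ, h, one_mul]
  rw [h1]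
  exact sq_mem hG ((O Q).pow_mem ht _)

omit [Fintype F] [Finite U] [Finite P] in
/-- Scalars from the kernel. -/
theorem scal [Finite F] {S : Type*} [Group S] {π : E (prodForm Q Q') →* S}
    (hker : ∀ k : E (prodForm Q Q'), k ∈ π.ker ↔ ∃ a : F, ∀ v, (k : (U × P) ≃ₗ[F] (U × P)) v = a • v)
    (hnd : Nondeg (prodForm Q Q')) (hne : Nontrivial (U × P)) {r : ℕ} {t : U ≃ₗ[F] U}
    (htE : zz P t ∈ E (prodForm Q Q')) (h : (π ⟨zz P t, htE⟩) ^ r = 1) :
    ∃ a : F, a * a = 1 ∧ (∀ v, (t ^ r) v = a • v) ∧ (Nontrivial P → a = 1) := by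
  have h1 : (⟨zz P t, htE⟩ : E (prodForm Q Q')) ^ r ∈ π.ker := by
    rw [MonoidHom.mem_ker, map_pow, h]
  obtain ⟨a, ha⟩ := (hker _).1 h1
  have h2 : ∀ v : U × P, (zz P (t ^ r)) v = a • v := by
    intro v
    rw [← zz_pow]
    exact ha v
  refine ⟨a, ?_, fun v => ?_, ?_⟩
  · obtain ⟨w, hw⟩ : ∃ w : U × P, prodForm Q Q' w ≠ 0 := by
      by_contra hcon
      push Not at hcon
      obtain ⟨v, hv⟩ := exists_ne (0 : U × P)
      apply hv
      exact hnd _ fun y => by rw [QuadraticMap.polar, hcon, hcon, hcon, sub_zero, sub_zero]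
    have h3 := E_le_O ((⟨zz P t, htE⟩ : E (prodForm Q Q')) ^ r).2 w
    rw [ha, QuadraticMap.map_smul, smul_eq_mul] at h3
    apply mul_right_cancel₀ hw
    rw [h3, one_mul]
  · exact congrArg Prod.fst (h2 (v, 0))
  · intro hP
    obtain ⟨w, hw⟩ := exists_ne (0 : P)
    have h3 : w = a • w := congrArg Prod.snd (h2 (0, w))
    have h4 : (1 - a) • w = 0 := by rw [sub_smul, one_smul, ← h3, sub_self]
    exact (sub_eq_zero.1 ((smul_eq_zero.1 h4).resolve_right hw)).symm

end M

/-- **Primes dividing `q ^ k + 1`.** -/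
theorem isoM {F : Type} [Field F] [Fintype F] {p : ℕ} [Fact p.Prime] [CharP F p] {k : ℕ} {P : Type} [AddCommGroup P]
    [Module F P] [Finite P] {Q' : QuadraticForm F P} {j : ℕ} {δ : ℤ} (hQ' : Sg Q' j δ) (hj : j = 0 ∨ j = 1)
    (hk : 3 ≤ k) (hkj : j = 0 → 4 ≤ k) {ι : Type} [Fintype ι] [DecidableEq ι] {R : QuadraticForm F (ι → F)}
    (hR : Sg R (k + j) (-1 * δ)) {S : Type*} [Group S] (i : POmega F ⇑R ≃* S) {r : ℕ} (hr : r.Prime)
    (hr1 : r ∣ Fintype.card F ^ k + 1) (hr2 : ∀ i : ℕ, 0 < i → i < 2 * k → ¬ r ∣ Fintype.card F ^ i - 1) :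
    IsoAt p r S := by
  obtain ⟨L, _, _, _, Q, u, hQ, hu, huQ⟩ := exists_torusM F (k := k) (by omega)
  obtain ⟨hG, π, hπ, hker⟩ := exists_pi' (hQ.prod hQ') (by omega) hR i
  have hdL : finrank F L = 2 * k := hQ.dim
  have hcF : Nat.card F = Fintype.card F := Nat.card_eq_fintype_card
  have hF : 2 ≤ Fintype.card F := Fintype.one_lt_card
  have hu0 : u ≠ 0 := by
    rintro rfl
    have h1 := pow_orderOf_eq_one (0 : L)
    rw [hu, pow_succ, mul_zero] at h1
    exact zero_ne_one h1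
  obtain ⟨s, hs⟩ := hr1
  have hs0 : s ≠ 0 := by
    rintro rfl
    omega
  set lam : L := u ^ s with hlam
  have hlam0 : lam ≠ 0 := pow_ne_zero _ hu0
  have hlamo : orderOf lam = r := by
    rw [hlam, orderOf_pow_of_dvd hs0 (by rw [hu, hs]; exact Dvd.intro_left r rfl), hu, hs,
      Nat.mul_div_cancel _ (Nat.pos_of_ne_zero hs0)]
  have hpowQ : ∀ (m : ℕ) (v : L), Q (u ^ m * v) = Q v := by
    intro m
    induction m with
    | zero => intro v; rw [pow_zero, one_mul]
    | succ m ih => intro v; rw [pow_succ', mul_assoc, huQ, ih]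
  have hT := torU_minus hlam0 hlamo (by
    intro i hi hi2
    rw [hcF]
    rw [hdL] at hi2
    exact hr2 i hi hi2) (hpowQ s)
  have hr2' : r ≠ 2 := by
    rintro rfl
    rcases Nat.even_or_odd (Fintype.card F) with h | h
    · have h1 : Odd (Fintype.card F ^ k + 1) := (h.pow_of_ne_zero (by omega)).add_one
      rw [hs] at h1
      exact (Nat.not_odd_iff_even.2 (even_two_mul s)) h1
    · have h1 := hr2 1 one_pos (by omega)
      rw [pow_one] at h1
      exact h1 (Nat.Odd.sub_odd h odd_one).two_dvd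
  have hodd : Odd r := hr.odd_of_ne_two hr2'
  have hPd : finrank F P = 2 * j := hQ'.dim
  refine iso_orth (p := p) hr hT (hQ.prod hQ').nondeg (by rw [hPd]; omega) ?_ ?_ ?_
    (mem_of_odd hG hT.memO hodd hT.pow_eq) π hπ hker ?_
  · rw [hcF]
    intro h1
    have h2 : r ∣ 1 := (Nat.dvd_add_right (Dvd.dvd.pow h1 (by omega))).1 ⟨s, hs⟩
    exact hr.one_lt.ne' (Nat.dvd_one.1 h2)
  · rw [hcF]
    have h1 := hr2 1 one_pos (by omega)
    rwa [pow_one] at h1
  · rw [hcF]
    exact hr2 2 two_pos (by omega)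
  · rintro ⟨h1, h2⟩
    have hmO : mulL F u hu0 ∈ O Q := huQ
    have h3 := h1 ⟨zz P (mulL F u hu0 ^ 2), sq_mem hG hmO⟩ (by
      apply Subtype.ext
      show zz P (mulL F lam hlam0) * zz P (mulL F u hu0 ^ 2) = zz P (mulL F u hu0 ^ 2) * zz P (mulL F lam hlam0)
      refine LinearEquiv.ext fun v => Prod.ext ?_ rfl
      show lam * (u * (u * v.1)) = u * (u * (lam * v.1))
      ring)
    have hnt : Nontrivial L := inferInstance
    have hnt' : Nontrivial (L × P) := inferInstance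
    obtain ⟨a, ha2, ha, haP⟩ := scal hker (hQ.prod hQ').nondeg hnt' _ h3
    have hpw : ∀ (m : ℕ) (v : L), (mulL F u hu0 ^ m) v = u ^ m * v := by
      intro m
      induction m with
      | zero => intro v; rw [pow_zero, pow_zero, one_mul]; rfl
      | succ m ih =>
        intro v
        rw [pow_succ', LinearEquiv.mul_apply, ih, mulL_apply, pow_succ', mul_assoc]
    have h4 : u ^ (2 * r) = a • (1 : L) := by
      have h5 := ha 1
      rw [← pow_mul, hpw, mul_one] at h5
      exact h5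
    refine numM hF hk hj hkj hr ?_ ?_ ?_
    · rw [finrank_prod, hdL, hPd] at h2
      omega
    · rw [← hu]
      apply orderOf_dvd_of_pow_eq_one
      rw [show 4 * r = 2 * r * 2 by ring, pow_mul, h4, smul_pow, one_pow, pow_two, ha2, one_smul]
    · intro hj1
      rw [← hu]
      apply orderOf_dvd_of_pow_eq_one
      rw [h4, haP (Module.nontrivial_of_finrank_pos (R := F) (by rw [hPd]; omega)), one_smul]

/-- the zero space -/
theorem sg_zero (F : Type) [Field F] [Finite F] : Sg (0 : QuadraticForm F PUnit.{1}) 0 1 :=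
  ⟨fun _ _ => Subsingleton.elim _ _, by rw [mul_zero]; exact Module.finrank_zero_of_subsingleton,
    hasSign_zero _ (fun _ => rfl), Or.inl rfl⟩

/-- the hyperbolic trace form -/
theorem sg_tq (F K : Type) [Field F] [Finite F] [Field K] [Finite K] [Algebra F K] {k : ℕ} (hk : finrank F K = k) :
    Sg (tq F K) k 1 := by
  have hs := (sg_hypForm (F := K)).res (F := F)
  rw [hk, mul_one] at hs
  exact hs.congr (LinearEquiv.refl F (K × K)) fun v => rfl

theorem dw_pow {F K : Type} [Field F] [Field K] [Algebra F K] (u : Kˣ) (m : ℕ) :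
    (dw u : (K × K) ≃ₗ[F] (K × K)) ^ m = dw (u ^ m) := by
  induction m with
  | zero =>
    refine LinearEquiv.ext fun v => ?_
    rw [pow_zero, pow_zero, dw_apply, inv_one, Units.val_one, one_mul, one_mul]
    rfl
  | succ m ih =>
    refine LinearEquiv.ext fun v => ?_
    rw [pow_succ, LinearEquiv.mul_apply, ih, dw_apply, dw_apply, dw_apply, pow_succ, Units.val_mul, mul_inv,
      Units.val_mul, mul_assoc, mul_assoc]

/-- **Primes dividing `q ^ k - 1`, `k` odd.** -/
theorem isoP {F : Type} [Field F] [Fintype F] {p : ℕ} [Fact p.Prime] [CharP F p] {k : ℕ}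
    (hk : 5 ≤ k) (hodd : Odd k) {ι : Type} [Fintype ι] [DecidableEq ι] {R : QuadraticForm F (ι → F)}
    (hR : Sg R k 1) {S : Type*} [Group S] (i : POmega F ⇑R ≃* S) {r : ℕ} (hr : r.Prime)
    (hr1 : r ∣ Fintype.card F ^ k - 1) (hr2 : ∀ i : ℕ, 0 < i → i < k → ¬ r ∣ Fintype.card F ^ i - 1) :
    IsoAt p r S := by
  obtain ⟨K, _, _, b, hKf, y, hK, hy⟩ := Singer.exists_ext F k (by omega)
  have hrk : Module.finrank F K = k := by rw [Module.finrank_eq_card_basis b, Fintype.card_fin]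
  have hQ := sg_tq F K hrk
  have hQ' := sg_zero F
  obtain ⟨hG, π, hπ, hker⟩ := exists_pi' (hQ.prod hQ') (by omega) (by rw [add_zero, mul_one]; exact hR) i
  have hcF : Nat.card F = Fintype.card F := Nat.card_eq_fintype_card
  have hF : 2 ≤ Fintype.card F := Fintype.one_lt_card
  have hFk : 2 ^ k ≤ Fintype.card F ^ k := Nat.pow_le_pow_left hF k
  have h2k := num1 (k := k) (by omega)
  obtain ⟨s, hs⟩ := hr1
  have hs0 : s ≠ 0 := by
    rintro rfl
    omega
  set lam : Kˣ := y ^ s with hlam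
  have hlamo : orderOf (lam : K) = r := by
    rw [orderOf_units, hlam, orderOf_pow_of_dvd hs0 (by rw [hy, hs]; exact Dvd.intro_left r rfl), hy, hs,
      Nat.mul_div_cancel _ (Nat.pos_of_ne_zero hs0)]
  have hr2' : r ≠ 2 := by
    rintro rfl
    rcases Nat.even_or_odd (Fintype.card F) with h | h
    · have h1 : Odd (Fintype.card F ^ k - 1) := Nat.Even.sub_odd (by omega) (h.pow_of_ne_zero (by omega)) odd_one
      rw [hs] at h1
      exact (Nat.not_odd_iff_even.2 (even_two_mul s)) h1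
    · have h1 := hr2 1 one_pos (by omega)
      rw [pow_one] at h1
      exact h1 (Nat.Odd.sub_odd h odd_one).two_dvd
  have hT := torU_plus (F := F) (r := r) (lam := lam) (by omega) (tor_of_odd hr hr2' lam.ne_zero hlamo (by rwa [hrk]) (by
    intro i hi hi2
    rw [hcF]
    rw [hrk] at hi2
    exact hr2 i hi hi2)) hlamo
  have hr2'' : Odd r := hr.odd_of_ne_two hr2'
  have hPd : finrank F PUnit.{1} = 0 := Module.finrank_zero_of_subsingleton
  refine iso_orth (p := p) hr hT (hQ.prod hQ').nondeg (Or.inl hPd) ?_ ?_ ?_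
    (mem_of_odd hG hT.memO hr2'' hT.pow_eq) π hπ hker ?_
  · rw [hcF]
    intro h1
    have h3 : Fintype.card F ^ k = r * s + 1 := by omega
    have h2 : r ∣ 1 := (Nat.dvd_add_right (Dvd.intro s rfl)).1 (h3 ▸ Dvd.dvd.pow h1 (by omega))
    exact hr.one_lt.ne' (Nat.dvd_one.1 h2)
  · rw [hcF]
    have h1 := hr2 1 one_pos (by omega)
    rwa [pow_one] at h1
  · rw [hcF]
    exact hr2 2 two_pos (by omega)
  · rintro ⟨h1, h2⟩
    have h3 := h1 ⟨zz PUnit (dw y ^ 2), sq_mem hG (dw_mem_O y)⟩ (by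
      apply Subtype.ext
      show zz PUnit (dw lam) * zz PUnit (dw y ^ 2) = zz PUnit (dw y ^ 2) * zz PUnit (dw lam)
      refine LinearEquiv.ext fun v => Prod.ext ?_ rfl
      show (dw lam : (K × K) ≃ₗ[F] (K × K)) ((dw y ^ 2 : (K × K) ≃ₗ[F] (K × K)) v.1) =
        (dw y ^ 2 : (K × K) ≃ₗ[F] (K × K)) ((dw lam : (K × K) ≃ₗ[F] (K × K)) v.1)
      rw [dw_pow, dw_apply, dw_apply, dw_apply, dw_apply]
      refine Prod.ext ?_ ?_
      · show (lam : K) * (((y ^ 2 : Kˣ) : K) * v.1.1) = ((y ^ 2 : Kˣ) : K) * ((lam : K) * v.1.1)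
        ring
      · show ((lam⁻¹ : Kˣ) : K) * ((((y ^ 2)⁻¹ : Kˣ) : K) * v.1.2) = (((y ^ 2)⁻¹ : Kˣ) : K) * (((lam⁻¹ : Kˣ) : K) * v.1.2)
        ring)
    have hnt' : Nontrivial ((K × K) × PUnit.{1}) := inferInstance
    obtain ⟨a, ha2, ha, -⟩ := scal hker (hQ.prod hQ').nondeg hnt' _ h3
    have h4 : ((y ^ (2 * r) : Kˣ) : K) = a • (1 : K) := by
      have h5 := ha (1, 0)
      rw [← pow_mul, dw_pow, dw_apply] at h5
      have h6 := congrArg Prod.fst h5
      rw [mul_one] at h6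
      exact h6
    refine numP hF hk hr ?_ ?_
    · rw [finrank_prod, hPd, hQ.dim] at h2
      omega
    · rw [← hy]
      apply orderOf_dvd_of_pow_eq_one
      apply Units.ext
      rw [show 4 * r = 2 * r * 2 by ring, pow_mul, Units.val_pow_eq_pow_val, h4, smul_pow, one_pow, pow_two, ha2,
        one_smul, Units.val_one]

/-- **The exception `POmega⁻_8 (2)`, `r = 7`.** -/
theorem isoE {F : Type} [Field F] [Fintype F] (hF2 : Fintype.card F = 2) {p : ℕ} [Fact p.Prime] [CharP F p]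
    {ι : Type} [Fintype ι] [DecidableEq ι] {R : QuadraticForm F (ι → F)}
    (hR : Sg R 4 (-1)) {S : Type*} [Group S] (i : POmega F ⇑R ≃* S) : IsoAt p 7 S := by
  obtain ⟨K, _, _, b, hKf, y, hK, hy⟩ := Singer.exists_ext F 3 (by omega)
  have hrk : Module.finrank F K = 3 := by rw [Module.finrank_eq_card_basis b, Fintype.card_fin]
  have hQ := sg_tq F K hrk
  obtain ⟨L, _, _, _, Q', u, hQ', hu, huQ⟩ := exists_torusM F (k := 1) one_ne_zero
  obtain ⟨hG, π, hπ, hker⟩ := exists_pi' (hQ.prod hQ') (by omega) (by rw [one_mul]; exact hR) i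
  have hcF : Nat.card F = 2 := by rw [Nat.card_eq_fintype_card, hF2]
  have hy7 : orderOf (y : K) = 7 := by
    rw [orderOf_units, hy, hF2]
    norm_num
  have h7 : Nat.Prime 7 := by norm_num
  have hT := torU_plus (F := F) (r := 7) (lam := y) (by omega) (tor_of_odd h7 (by norm_num) y.ne_zero hy7
    (by rw [hrk]; decide) (by
    intro i hi hi2
    rw [hcF]
    rw [hrk] at hi2
    have hi3 : i = 1 ∨ i = 2 := by omega
    rcases hi3 with rfl | rfl <;> norm_num)) hy7
  have hPd : finrank F L = 2 := by rw [hQ'.dim]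
  refine iso_orth (p := p) h7 hT (hQ.prod hQ').nondeg (Or.inr hPd) ?_ ?_ ?_
    (mem_of_odd hG hT.memO (by decide) hT.pow_eq) π hπ hker ?_
  · rw [hcF]; norm_num
  · rw [hcF]; norm_num
  · rw [hcF]; norm_num
  · rintro ⟨h1, -⟩
    have hu0 : u ≠ 0 := by
      rintro rfl
      have h1 := pow_orderOf_eq_one (0 : L)
      rw [hu, pow_succ, mul_zero] at h1
      exact zero_ne_one h1
    set T : ((K × K) × L) ≃ₗ[F] ((K × K) × L) := (LinearEquiv.refl F (K × K)).prodCongr (mulL F u hu0) with hTdef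
    have hTO : T ∈ O (prodForm (tq F K) Q') := by
      intro v
      rw [prodForm_apply, prodForm_apply]
      show tq F K v.1 + Q' (u * v.2) = _
      rw [huQ]
    have hTE := Cfsg.Agent.ETable.Orth.sq_mem_E hG hTO
    have h3 := h1 ⟨T * T, hTE⟩ (by
      apply Subtype.ext
      show zz L (dw y) * (T * T) = T * T * zz L (dw y)
      rfl)
    have h4 : (⟨T * T, hTE⟩ : E (prodForm (tq F K) Q')) ^ 7 ∈ π.ker := by
      rw [MonoidHom.mem_ker, map_pow, h3]
    obtain ⟨a, ha⟩ := (hker _).1 h4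
    have h5 : ∀ (m : ℕ) (v : (K × K) × L), ((T * T) ^ m) v = (v.1, u ^ (2 * m) * v.2) := by
      intro m
      induction m with
      | zero => intro v; rw [pow_zero, mul_zero, pow_zero, one_mul]; rfl
      | succ m ih =>
        intro v
        rw [pow_succ', LinearEquiv.mul_apply, ih]
        refine Prod.ext rfl ?_
        show u * (u * (u ^ (2 * m) * v.2)) = u ^ (2 * (m + 1)) * v.2
        ring
    have h6 : ∀ v : (K × K) × L, ((T * T) ^ 7) v = a • v := ha
    have h8 : a • (1 : K) = 1 := by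
      have h9 := h6 ((1, 0), 0)
      rw [h5] at h9
      exact (congrArg (fun v : (K × K) × L => v.1.1) h9).symm
    have ha1 : a = 1 := by
      have h9 : (a - 1) • (1 : K) = 0 := by rw [sub_smul, h8, one_smul, sub_self]
      exact sub_eq_zero.1 ((smul_eq_zero.1 h9).resolve_right one_ne_zero)
    have h9 := h6 (0, 1)
    rw [h5, ha1, one_smul] at h9
    have h10 : u ^ (2 * 7) * 1 = 1 := congrArg Prod.snd h9
    rw [mul_one] at h10
    have h11 := orderOf_dvd_of_pow_eq_one h10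
    rw [hu, hF2] at h11
    revert h11
    decide

end Cfsg.Agent.H530.OZ
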