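import Cfsg.Agent.LieClassical.OrthFourMinus
import Cfsg.Agent.H530.OZ.Geo

/-!
# S4842: the four-dimensional space of minus type (helper530)

* `exists_four` : a form `Q'` with `Sg Q' 2 (-1)` and the subgroup `N ≅ PSL₂(q²)` of its isometry group.
-/

set_option autoImplicit false

namespace Cfsg.Agent.H530.OZ

open Module QuadraticMap Cfsg Subgroup
open Cfsg.Agent.LieClassical.OrthCore Cfsg.Agent.LieClassical.OrthTrans Cfsg.Agent.H890.SpParity
open Cfsg.Agent.LieClassical.OrthForms Cfsg.Agent.H182.Sign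
open scoped commutatorElement

/-- The minus-type space of dimension four. -/
structure FourM {F P : Type} [Field F] [AddCommGroup P] [Module F P] (Q' : QuadraticForm F P)
    (N : Subgroup (P ≃ₗ[F] P)) : Prop where
  le : N ≤ O Q'
  comm : ∀ g ∈ O Q', ∀ h ∈ O Q', ⁅g, h⁆ ∈ N
  perf : ⁅N, N⁆ = N
  sq : ∀ g ∈ O Q', g * g ∈ N
  even : (2 : F) = 0 → ∃ τ ∈ O Q', Odd (finrank F (fix τ)) ∧ ∀ g ∈ O Q', g ∈ N ∨ ∃ n ∈ N, g = n * τ
  iso : ∃ (E : Type) (_ : Field E) (_ : Fintype E), Fintype.card E = Nat.card F ^ 2 ∧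
    Nonempty (N ≃* Matrix.ProjectiveSpecialLinearGroup (Fin 2) E)

section model

open Cfsg.Agent.LieClassical.OrthFourMinus Cfsg.Agent.LieClassical.OrthFourCommon
open scoped MatrixGroups

variable {F : Type} [Field F] {c d : F}

theorem phi_center [hab : Fact (∀ r : F, r ^ 2 ≠ c + d * r)] (s : SL(2, LieClassical.OrthFourMinus.E F c d)) :
    phi s = 1 ↔ s ∈ Subgroup.center SL(2, LieClassical.OrthFourMinus.E F c d) := by
  constructor
  · exact mem_center_of_phi_eq_one
  · intro h
    obtain ⟨r, hr, h1⟩ := Matrix.SpecialLinearGroup.mem_center_iff.1 h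
    rw [Fintype.card_fin] at hr
    have hr' : r = 1 ∨ r = -1 := sq_eq_one_iff.1 hr
    have hn : QuadraticAlgebra.norm r = 1 := by
      rcases hr' with rfl | rfl
      · exact map_one _
      · rw [QuadraticAlgebra.norm_neg, map_one]
    have h2 : inc s = LieClassical.OrthFourMinus.scal r hn := by
      apply Subtype.ext
      apply Units.ext
      show s.1 = r • (1 : ME F c d)
      rw [← h1, Matrix.scalar_apply, Matrix.smul_one_eq_diagonal]
    show psi (inc s) = 1
    rw [h2, psi_scal]

theorem tau_sq : (tau (F := F) (c := c) (d := d)) * tau = 1 := by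
  refine Subtype.ext (LinearEquiv.ext fun v => ?_)
  show ((tau (c := c) (d := d)).1 ((tau (c := c) (d := d)).1 v)) = v
  rw [tau_apply, tau_apply, star_star]

theorem psi_mem (p : Gam F c d) (u : LieClassical.OrthFourMinus.E F c d) (hu : QuadraticAlgebra.norm u = 1)
    (h : u ^ 2 * (p.1 : ME F c d).det = 1) : psi p ∈ (phi (F := F) (c := c) (d := d)).range := by
  rw [phi_range]
  refine ⟨LieClassical.OrthFourMinus.scal u hu * p, ?_, ?_⟩
  · change (LieClassical.OrthFourMinus.scal u hu * p).1.det = 1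
    ext1
    rw [Matrix.GeneralLinearGroup.val_det_apply]
    change ((u • (1 : ME F c d)) * (p.1 : ME F c d)).det = 1
    rw [Matrix.det_mul, Matrix.det_smul, Matrix.det_one, mul_one, Fintype.card_fin, h]
  · rw [map_mul, psi_scal, one_mul]

/-- squares -/
theorem sq_range (hs : ∀ r : F, ∃ z : LieClassical.OrthFourMinus.E F c d, QuadraticAlgebra.norm z = r)
    [Fact (∀ r : F, r ^ 2 ≠ c + d * r)] (g : isom (LieClassical.OrthFourMinus.Q c d)) :
    g * g ∈ (phi (F := F) (c := c) (d := d)).range := by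
  obtain ⟨p, hp | hp⟩ := exists_eq hs g
  · rw [hp, ← map_mul]
    have hn : QuadraticAlgebra.norm (p.1 : ME F c d).det = 1 := p.2
    refine psi_mem _ (star (p.1 : ME F c d).det) ?_ ?_
    · rw [QuadraticAlgebra.norm_star, hn]
    · change _ * ((p.1 : ME F c d) * (p.1 : ME F c d)).det = 1
      rw [Matrix.det_mul]
      have h1 : (p.1 : ME F c d).det * star (p.1 : ME F c d).det = 1 := by
        rw [← QuadraticAlgebra.algebraMap_norm_eq_mul_star, hn, map_one]
      linear_combination ((p.1 : ME F c d).det * star (p.1 : ME F c d).det + 1) * h1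
  · have h1 : g * g = psi (p * sw p) := by
      rw [map_mul, ← tau_conj, hp]
      have h2 : (tau (F := F) (c := c) (d := d))⁻¹ = tau := inv_eq_of_mul_eq_one_left tau_sq
      rw [h2]
      group
    rw [h1]
    refine psi_mem _ 1 (map_one _) ?_
    rw [one_pow, one_mul]
    change ((p.1 : ME F c d) * (p.1 : ME F c d).map star).det = 1
    have hn : QuadraticAlgebra.norm (p.1 : ME F c d).det = 1 := p.2
    rw [Matrix.det_mul]
    change (p.1 : ME F c d).det * ((starRingEnd (LieClassical.OrthFourMinus.E F c d)).mapMatrix (p.1 : ME F c d)).det = 1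
    rw [← RingHom.map_det]
    change (p.1 : ME F c d).det * star (p.1 : ME F c d).det = 1
    rw [← QuadraticAlgebra.algebraMap_norm_eq_mul_star, hn, map_one]

theorem even_range [Finite F] (h2 : (2 : F) = 0)
    (hs : ∀ r : F, ∃ z : LieClassical.OrthFourMinus.E F c d, QuadraticAlgebra.norm z = r)
    [Fact (∀ r : F, r ^ 2 ≠ c + d * r)] (g : isom (LieClassical.OrthFourMinus.Q c d)) :
    g ∈ (phi (F := F) (c := c) (d := d)).range ∨ ∃ n ∈ (phi (F := F) (c := c) (d := d)).range, g = n * tau := by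
  have hfE : Finite (LieClassical.OrthFourMinus.E F c d) := Finite.of_equiv _ (QuadraticAlgebra.equivProd c d).symm
  have h2E : (2 : LieClassical.OrthFourMinus.E F c d) = 0 := by
    have h3 := congrArg (algebraMap F (LieClassical.OrthFourMinus.E F c d)) h2
    rwa [map_ofNat, map_zero] at h3
  have hchE : CharP (LieClassical.OrthFourMinus.E F c d) 2 := CharTwo.of_one_ne_zero_of_two_eq_zero one_ne_zero h2E
  have hch : CharP F 2 := CharTwo.of_one_ne_zero_of_two_eq_zero one_ne_zero h2
  have key : ∀ p : Gam F c d, psi p ∈ (phi (F := F) (c := c) (d := d)).range := by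
    intro p
    have hn : QuadraticAlgebra.norm (p.1 : ME F c d).det = 1 := p.2
    have h0 : (p.1 : ME F c d).det ≠ 0 := by
      intro h
      rw [h, QuadraticAlgebra.norm_zero] at hn
      exact zero_ne_one hn
    obtain ⟨u, hu⟩ : ∃ u : LieClassical.OrthFourMinus.E F c d, u ^ 2 = (p.1 : ME F c d).det⁻¹ := by
      have hinj : Function.Injective (frobenius (LieClassical.OrthFourMinus.E F c d) 2) := RingHom.injective _
      obtain ⟨u, hu⟩ := Finite.surjective_of_injective hinj (p.1 : ME F c d).det⁻¹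
      exact ⟨u, hu⟩
    refine psi_mem p u ?_ (by rw [hu, inv_mul_cancel₀ h0])
    have h3 : QuadraticAlgebra.norm u ^ 2 = 1 := by
      have h5 := congrArg QuadraticAlgebra.norm (show u ^ 2 * (p.1 : ME F c d).det = 1 by rw [hu, inv_mul_cancel₀ h0])
      rwa [map_mul, map_pow, hn, mul_one, map_one] at h5
    have h4 : (QuadraticAlgebra.norm u - 1) ^ 2 = 0 := by
      rw [sub_pow_char, h3, one_pow, sub_self]
    exact sub_eq_zero.1 (pow_eq_zero_iff two_ne_zero |>.1 h4)
  obtain ⟨p, hp | hp⟩ := exists_eq hs g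
  · left; rw [hp]; exact key p
  · right; exact ⟨_, key p, hp⟩

theorem odd_tau (hd : d ≠ 0) : Odd (finrank F (fix (tau (F := F) (c := c) (d := d)).1)) := by
  have h1 : ∀ v : LieClassical.OrthFourMinus.V F c d, v ∈ fix (tau (F := F) (c := c) (d := d)).1 ↔ v.2.2.im = 0 := by
    intro v
    rw [mem_fix, tau_apply]
    constructor
    · intro h
      have h3 := congrArg (fun v : LieClassical.OrthFourMinus.V F c d => v.2.2.re) h
      have h4 : v.2.2.re + d * v.2.2.im = v.2.2.re := h3
      have h5 : d * v.2.2.im = 0 := by linear_combination h4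
      exact (mul_eq_zero.1 h5).resolve_left hd
    · intro h
      refine Prod.ext rfl (Prod.ext rfl ?_)
      refine QuadraticAlgebra.ext ?_ ?_
      · show v.2.2.re + d * v.2.2.im = v.2.2.re
        rw [h, mul_zero, add_zero]
      · show - v.2.2.im = v.2.2.im
        rw [h, neg_zero]
  let e : fix (tau (F := F) (c := c) (d := d)).1 ≃ₗ[F] F × F × F :=
    { toFun := fun v => (v.1.1, v.1.2.1, v.1.2.2.re)
      invFun := fun w => ⟨(w.1, w.2.1, ⟨w.2.2, 0⟩), (h1 _).2 rfl⟩
      map_add' := fun _ _ => rfl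
      map_smul' := fun _ _ => rfl
      left_inv := fun v => Subtype.ext (Prod.ext rfl (Prod.ext rfl (QuadraticAlgebra.ext rfl ((h1 v.1).1 v.2).symm)))
      right_inv := fun _ => rfl }
  rw [e.finrank_eq, finrank_prod, finrank_prod, finrank_self]
  decide

/-- **The four-dimensional space of minus type.** -/
theorem exists_four (F : Type) [Field F] [Finite F] : ∃ (P : Type) (_ : AddCommGroup P) (_ : Module F P) (_ : Finite P)
    (Q' : QuadraticForm F P) (N : Subgroup (P ≃ₗ[F] P)), Sg Q' 2 (-1) ∧ FourM Q' N := by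
  obtain ⟨ζ, hζ⟩ := exists_aniso F
  have hab : Fact (∀ r : F, r ^ 2 ≠ -ζ + 1 * r) := ⟨fun r hr => by
    have := (hζ (-r) 1 (by linear_combination hr)).2
    exact one_ne_zero this⟩
  have hfE : Finite (LieClassical.OrthFourMinus.E F (-ζ) 1) :=
    Finite.of_equiv _ (QuadraticAlgebra.equivProd (-ζ) 1).symm
  have hs : ∀ r : F, ∃ z : LieClassical.OrthFourMinus.E F (-ζ) 1, QuadraticAlgebra.norm z = r := norm_surjective
  let Q' : QuadraticForm F (LieClassical.OrthFourMinus.V F (-ζ) 1) :=
    (minusForm 1 F 1 ζ).comp (coord F (-ζ) 1).symm.toLinearMap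
  have hQ' : ∀ v, Q' v = LieClassical.OrthFourMinus.Q (-ζ) 1 v := by
    intro v
    show minusForm 1 F 1 ζ ((coord F (-ζ) 1).symm v) = _
    rw [coe_minusForm, ← Q_coord, LinearEquiv.apply_symm_apply]
  have hO : ∀ {g : LieClassical.OrthFourMinus.V F (-ζ) 1 ≃ₗ[F] LieClassical.OrthFourMinus.V F (-ζ) 1},
      g ∈ O Q' ↔ g ∈ isom (LieClassical.OrthFourMinus.Q (-ζ) 1) := by
    intro g
    rw [mem_isom]
    constructor
    · intro h v
      rw [← hQ', ← hQ', h]
    · intro h v
      rw [hQ', hQ', h]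
  have hSg : Sg Q' 2 (-1) := by
    refine (sg_minusForm 1 hζ).congr (coord F (-ζ) 1) fun v => ?_
    rw [hQ', Q_coord, coe_minusForm]
  set R := (phi (F := F) (c := -ζ) (d := 1)).range with hR
  have hcomm : commutator (isom (LieClassical.OrthFourMinus.Q (-ζ) (1 : F))) = R :=
    le_antisymm (commutator_le' (exists_eq hs)) le_commutator
  refine ⟨_, inferInstance, inferInstance, inferInstance, Q', R.map (isom _).subtype, hSg, ?_, ?_, ?_, ?_, ?_, ?_⟩
  · rintro _ ⟨x, -, rfl⟩
    exact hO.2 x.2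
  · intro g hg h hh
    refine ⟨⁅(⟨g, hO.1 hg⟩ : isom (LieClassical.OrthFourMinus.Q (-ζ) (1 : F))), ⟨h, hO.1 hh⟩⁆, ?_, rfl⟩
    rw [SetLike.mem_coe, ← hcomm]
    exact Subgroup.commutator_mem_commutator (Subgroup.mem_top _) (Subgroup.mem_top _)
  · rw [← Subgroup.map_commutator, hR, MonoidHom.range_eq_map, ← Subgroup.map_commutator]
    congr 2
    exact commutator_SL
  · intro g hg
    exact ⟨⟨g, hO.1 hg⟩ * ⟨g, hO.1 hg⟩, sq_range hs _, rfl⟩
  · intro h2
    refine ⟨tau.1, hO.2 tau.2, odd_tau one_ne_zero, ?_⟩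
    intro g hg
    rcases even_range h2 hs ⟨g, hO.1 hg⟩ with h | ⟨n, hn, h⟩
    · left
      exact ⟨⟨g, hO.1 hg⟩, h, rfl⟩
    · right
      exact ⟨n.1, ⟨n, hn, rfl⟩, congrArg Subtype.val h⟩
  · have hft := Fintype.ofFinite (LieClassical.OrthFourMinus.E F (-ζ) 1)
    refine ⟨LieClassical.OrthFourMinus.E F (-ζ) 1, inferInstance, hft, ?_, ?_⟩
    · rw [← Nat.card_eq_fintype_card, Nat.card_congr (QuadraticAlgebra.equivProd (-ζ) 1), Nat.card_prod, pow_two]
    · have e1 : R ≃* R.map (isom (LieClassical.OrthFourMinus.Q (-ζ) (1 : F))).subtype :=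
        Subgroup.equivMapOfInjective _ _ Subtype.val_injective
      have hker : (phi (F := F) (c := -ζ) (d := 1)).ker = Subgroup.center _ := by
        ext s
        rw [MonoidHom.mem_ker, phi_center]
      have e2 := QuotientGroup.quotientKerEquivRange (phi (F := F) (c := -ζ) (d := 1))
      exact ⟨e1.symm.trans (e2.symm.trans (QuotientGroup.quotientMulEquivOfEq hker))⟩

end model

end Cfsg.Agent.H530.OZ
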