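import Cfsg.Agent.H530.OZ.Cover
import Cfsg.Agent.H890.SpParity
import Cfsg.Agent.H182.Classify
import Cfsg.Agent.ETable.OrthBase

/-!
# S4842: isolated primes of orthogonal groups (helper530)

The space `U × P`, `dim P = 0` or `2`, `z` acting on `U` with a centralizer embedded in the multiplicative group
of a field `L` (`TorU`) and trivially on `P`.

* `iso_orth` : the prime `r = o(z)` is isolated in the image of `E (prodForm Q Q')`.
-/

set_option autoImplicit false

namespace Cfsg.Agent.H530.OZ

open Module QuadraticMap Cfsg Subgroup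
open Cfsg.Agent.LieClassical.OrthCore Cfsg.Agent.LieClassical.OrthTrans Cfsg.Agent.H890.SpParity
open Cfsg.Agent.H182.Sign

section lin

variable {F : Type*} [Field F] {U P L : Type*} [AddCommGroup U] [Module F U] [AddCommGroup P] [Module F P]
  [Field L] [Algebra F L]

/-- eigenvalues of endomorphisms -/
theorem root_charpoly [FiniteDimensional F U] (f : Module.End F U) (y : L) (j : L →ₗ[F] U)
    (hj : Function.Injective j) (h : ∀ l, f (j l) = j (y * l)) : Polynomial.aeval y f.charpoly = 0 := by
  have hpow : ∀ (k : ℕ) (l : L), (f ^ k) (j l) = j (y ^ k * l) := by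
    intro k
    induction k with
    | zero => intro l; simp
    | succ k ih =>
      intro l
      rw [pow_succ, Module.End.mul_apply, h, ih, pow_succ, mul_assoc]
  have key : ∀ (p : Polynomial F) (l : L), (Polynomial.aeval f p) (j l) = j (Polynomial.aeval y p * l) := by
    intro p
    induction p using Polynomial.induction_on' with
    | add p q hp hq =>
      intro l
      rw [map_add, LinearMap.add_apply, hp, hq, map_add, add_mul, map_add]
    | monomial n a =>
      intro l
      rw [Polynomial.aeval_monomial, Polynomial.aeval_monomial, Module.End.mul_apply, hpow,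
        Module.algebraMap_end_apply, mul_assoc, ← Algebra.smul_def, map_smul]
  have h1 := key f.charpoly 1
  rw [LinearMap.aeval_self_charpoly, LinearMap.zero_apply, mul_one] at h1
  apply hj
  rw [← h1, map_zero]

/-- If all the powers of an eigenvalue of order `r` are eigenvalues then `r ≤ dim + 1`. -/
theorem le_of_roots [FiniteDimensional F U] (f : Module.End F U) {r : ℕ} {y : L} (hy : orderOf y = r)
    (h : ∀ m : ℕ, 0 < m → m < r → Polynomial.aeval (y ^ m) f.charpoly = 0) : r ≤ finrank F U + 1 := by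
  classical
  rcases Nat.eq_zero_or_pos r with hr | hr
  · omega
  have h1 : f.charpoly ≠ 0 := (LinearMap.charpoly_monic f).ne_zero
  have h2 : ((Finset.Ioo 0 r).image fun m : ℕ => y ^ m).card ≤ f.charpoly.natDegree := by
    rw [← Polynomial.natDegree_map (algebraMap F L)]
    refine Polynomial.card_le_degree_of_subset_roots ?_
    intro x hx
    rw [Finset.mem_val, Finset.mem_image] at hx
    obtain ⟨m, hm, rfl⟩ := hx
    rw [Finset.mem_Ioo] at hm
    rw [Polynomial.mem_roots_map h1, ← Polynomial.aeval_def]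
    exact h m hm.1 hm.2
  rw [Finset.card_image_of_injOn, Nat.card_Ioo, LinearMap.charpoly_natDegree] at h2
  · omega
  · intro a ha b hb hab
    rw [Finset.mem_coe, Finset.mem_Ioo] at ha hb
    exact pow_injOn_Iio_orderOf (by rw [Set.mem_Iio, hy]; exact ha.2) (by rw [Set.mem_Iio, hy]; exact hb.2) hab

/-- The block decomposition. -/
theorem block [FiniteDimensional F U] [FiniteDimensional F P] {z : U ≃ₗ[F] U} (hz : ∀ v, z v = v → v = 0)
    {g : (U × P) ≃ₗ[F] (U × P)} (hc : Commute g (z.prodCongr (LinearEquiv.refl F P))) :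
    ∃ (t : U ≃ₗ[F] U) (s : P ≃ₗ[F] P), g = t.prodCongr s := by
  have hcc : ∀ (u : U) (p : P), g (z u, p) = (z (g (u, p)).1, (g (u, p)).2) := fun u p =>
    LinearEquiv.congr_fun hc.eq (u, p)
  have h1 : ∀ p : P, (g (0, p)).1 = 0 := by
    intro p
    have := congrArg Prod.fst (hcc 0 p)
    rw [map_zero] at this
    exact hz _ this.symm
  have h2 : ∀ u : U, (g (u, 0)).2 = 0 := by
    intro u
    obtain ⟨v, hv⟩ : ∃ v, z v - v = u := by
      have hinj : Function.Injective ((z.toLinearMap - LinearMap.id : U →ₗ[F] U)) := by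
        rw [injective_iff_map_eq_zero]
        intro v hv
        exact hz v (sub_eq_zero.1 hv)
      exact (LinearMap.injective_iff_surjective.1 hinj) u
    have h3 : ((u, 0) : U × P) = (z v, 0) - (v, 0) := by
      rw [Prod.mk_sub_mk, hv, sub_zero]
    rw [h3, map_sub, hcc]
    exact sub_self _
  have hg : ∀ (u : U) (p : P), g (u, p) = ((g (u, 0)).1, (g (0, p)).2) := by
    intro u p
    have h3 : ((u, p) : U × P) = (u, 0) + (0, p) := by simp
    rw [h3, map_add]
    refine Prod.ext ?_ ?_
    · show (g (u, 0)).1 + (g (0, p)).1 = (g (u, 0)).1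
      rw [h1, add_zero]
    · show (g (u, 0)).2 + (g (0, p)).2 = (g (0, p)).2
      rw [h2, zero_add]
  let t : U →ₗ[F] U := (LinearMap.fst F U P).comp (g.toLinearMap.comp (LinearMap.inl F U P))
  let s : P →ₗ[F] P := (LinearMap.snd F U P).comp (g.toLinearMap.comp (LinearMap.inr F U P))
  have ht : Function.Injective t := by
    rw [injective_iff_map_eq_zero]
    intro u hu
    have h3 : g (u, 0) = 0 := Prod.ext hu (h2 u)
    rw [LinearEquiv.map_eq_zero_iff] at h3
    exact congrArg Prod.fst h3
  have hs : Function.Injective s := by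
    rw [injective_iff_map_eq_zero]
    intro p hp
    have h3 : g (0, p) = 0 := Prod.ext (h1 p) hp
    rw [LinearEquiv.map_eq_zero_iff] at h3
    exact congrArg Prod.snd h3
  refine ⟨LinearEquiv.ofInjectiveEndo t ht, LinearEquiv.ofInjectiveEndo s hs, ?_⟩
  ext p
  · exact congrArg Prod.fst (hg p.1 p.2)
  · exact congrArg Prod.snd (hg p.1 p.2)

/-- An element of `p`-power order without ... of a plane -/
theorem eq_one_of_even [FiniteDimensional F P] {p : ℕ} [Fact p.Prime] [CharP F p] (hP : finrank F P = 0 ∨ finrank F P = 2)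
    {s : P ≃ₗ[F] P} (hs : s ^ p = 1) (he : Even (finrank F (fix s))) : s = 1 := by
  have key : fix s = ⊤ → s = 1 := by
    intro h
    ext v
    have : v ∈ fix s := by rw [h]; exact Submodule.mem_top
    exact mem_fix.1 this
  apply key
  rcases hP with h0 | h2
  · have : Subsingleton P := Module.finrank_zero_iff.1 h0
    exact Subsingleton.elim _ _
  · have hle := Submodule.finrank_le (fix s)
    rw [h2] at hle
    have hne : finrank F (fix s) ≠ 0 := by
      intro h0
      rw [Submodule.finrank_eq_zero] at h0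
      have h1 : ((s.toLinearMap : Module.End F P) - 1) ^ p = 0 := by
        have hcp : CharP (Module.End F P) p := by
          have : Nontrivial P := Module.nontrivial_of_finrank_pos (R := F) (by omega)
          exact charP_of_injective_algebraMap (algebraMap F (Module.End F P)).injective p
        rw [sub_pow_char_of_commute p (Commute.one_right _), one_pow, sub_eq_zero]
        have h3 : ∀ k : ℕ, ((s ^ k : P ≃ₗ[F] P)).toLinearMap = (s.toLinearMap : Module.End F P) ^ k := by
          intro k
          induction k with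
          | zero => rfl
          | succ k ih => rw [pow_succ, pow_succ, ← ih]; rfl
        rw [← h3, hs]
        rfl
      have h3 : Function.Injective (((s.toLinearMap : Module.End F P) - 1 : Module.End F P) : P → P) :=
        LinearMap.ker_eq_bot.1 h0
      have h4 : Function.Injective ((((s.toLinearMap : Module.End F P) - 1) ^ p : Module.End F P) : P → P) := by
        rw [Module.End.coe_pow]
        exact h3.iterate p
      rw [h1] at h4
      have : Nontrivial P := Module.nontrivial_of_finrank_pos (R := F) (by omega)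
      obtain ⟨v, hv⟩ := exists_ne (0 : P)
      exact hv (h4 rfl)
    obtain ⟨k, hk⟩ := he
    exact Submodule.eq_top_of_finrank_eq (by omega)

/-- An element of `r`-power order of a plane. -/
theorem eq_one_of_order [Finite F] [Finite P] {r : ℕ} (hr : r.Prime) (hP : finrank F P ≤ 2)
    (hq : ¬ r ∣ Nat.card F) (hq1 : ¬ r ∣ Nat.card F - 1) (hq2 : ¬ r ∣ Nat.card F ^ 2 - 1)
    {s : P ≃ₗ[F] P} (hs : ∃ j : ℕ, s ^ (r ^ j) = 1) : s = 1 := by
  have := Fact.mk hr
  have hfd : FiniteDimensional F P := Module.Finite.of_finite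
  obtain ⟨j, hj⟩ := hs
  have hrP : IsPGroup r (Subgroup.zpowers s) := by
    intro x
    obtain ⟨k, hk⟩ := Subgroup.mem_zpowers_iff.1 x.2
    refine ⟨j, Subtype.ext ?_⟩
    show (x : P ≃ₗ[F] P) ^ r ^ j = 1
    rw [← hk, ← zpow_natCast, ← zpow_mul, mul_comm, zpow_mul, zpow_natCast, hj, one_zpow]
  have h1 := hrP.card_modEq_card_fixedPoints P
  have h2 : Nat.card (MulAction.fixedPoints (Subgroup.zpowers s) P) = Nat.card (fix s) := by
    refine Nat.card_congr (Equiv.subtypeEquivRight fun v => ?_)
    rw [MulAction.mem_fixedPoints]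
    show _ ↔ v ∈ fix s
    rw [mem_fix]
    constructor
    · intro h
      exact h ⟨s, Subgroup.mem_zpowers s⟩
    · intro h x
      obtain ⟨k, hk⟩ := Subgroup.mem_zpowers_iff.1 x.2
      show (x : P ≃ₗ[F] P) v = v
      rw [← hk]
      have h3 : s ∈ MulAction.stabilizer (P ≃ₗ[F] P) v := h
      exact (MulAction.stabilizer (P ≃ₗ[F] P) v).zpow_mem h3 k
  rw [h2, Module.natCard_eq_pow_finrank (K := F) (V := P), Module.natCard_eq_pow_finrank (K := F) (V := fix s)] at h1
  have hle := Submodule.finrank_le (fix s)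
  have hF : 0 < Nat.card F := Nat.card_pos
  have h3 : finrank F (fix s) = finrank F P := by
    by_contra hne
    have hlt : finrank F (fix s) < finrank F P := lt_of_le_of_ne hle hne
    obtain ⟨i, hi⟩ : ∃ i, finrank F P = finrank F (fix s) + i := ⟨finrank F P - finrank F (fix s), by omega⟩
    have h4 : r ∣ Nat.card F ^ finrank F P - Nat.card F ^ finrank F (fix s) :=
      (Nat.modEq_iff_dvd' (Nat.pow_le_pow_right hF hle)).1 h1.symm
    rw [hi, pow_add, ← Nat.mul_sub_one] at h4
    rcases (Nat.Prime.dvd_mul hr).1 h4 with h5 | h5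
    · exact hq (hr.dvd_of_dvd_pow h5)
    · have hi' : i = 1 ∨ i = 2 := by omega
      rcases hi' with rfl | rfl
      · rw [pow_one] at h5; exact hq1 h5
      · exact hq2 h5
  have h4 : fix s = ⊤ := Submodule.eq_top_of_finrank_eq h3
  ext v
  have : v ∈ fix s := by rw [h4]; exact Submodule.mem_top
  exact mem_fix.1 this

end lin

/-- A torus element of the isometry group of `Q` on `U`. -/
structure TorU {F U L : Type*} [Field F] [AddCommGroup U] [Module F U] [Field L] [Algebra F L]
    (Q : QuadraticForm F U) (r : ℕ) (z : U ≃ₗ[F] U) (j : L →ₗ[F] U) (lam : L) : Prop where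
  inj : Function.Injective j
  memO : z ∈ O Q
  eig : ∀ l, z (j l) = j (lam * l)
  ord : orderOf lam = r
  cen : ∀ t ∈ O Q, Commute t z → ∃ a : L, (∀ l, t (j l) = j (a * l)) ∧ (a = 1 → t = 1) ∧
    (a ≠ 1 → ∀ v, t v = v → v = 0)

section main

variable {F : Type*} [Field F] [Finite F] {U P L : Type*} [AddCommGroup U] [Module F U] [Finite U] [AddCommGroup P]
  [Module F P] [Finite P] [Field L] [Algebra F L] {Q : QuadraticForm F U} {Q' : QuadraticForm F P}
  {r : ℕ} {z : U ≃ₗ[F] U} {j : L →ₗ[F] U} {lam : L}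

omit [Finite F] [Finite U] in
theorem TorU.fix_eq (hT : TorU Q r z j lam) (hr : 1 < r) (v : U) (hv : z v = v) : v = 0 := by
  obtain ⟨a, ha, -, ha2⟩ := hT.cen z hT.memO (Commute.refl z)
  refine ha2 ?_ v hv
  rintro rfl
  have h1 := (hT.eig 1).symm.trans (ha 1)
  have h2 := hT.inj h1
  rw [mul_one, mul_one] at h2
  have h3 := hT.ord
  rw [h2, orderOf_one] at h3
  omega

omit [Finite F] [Finite U] in
theorem TorU.pow_eq (hT : TorU Q r z j lam) : z ^ r = 1 := by
  obtain ⟨a, ha, ha1, -⟩ := hT.cen (z ^ r) ((O Q).pow_mem hT.memO r) ((Commute.refl z).pow_left r)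
  apply ha1
  have hpow : ∀ (k : ℕ) (l : L), (z ^ k) (j l) = j (lam ^ k * l) := by
    intro k
    induction k with
    | zero => intro l; simp
    | succ k ih =>
      intro l
      rw [pow_succ, LinearEquiv.mul_apply, hT.eig, ih, pow_succ, mul_assoc]
  have h1 := (hpow r 1).symm.trans (ha 1)
  have h2 := hT.inj h1
  rw [mul_one, mul_one, ← hT.ord, pow_orderOf_eq_one] at h2
  exact h2.symm

omit [Finite F] [Finite U] in
theorem TorU.comm (hT : TorU Q r z j lam) {t t' : U ≃ₗ[F] U} (ht : t ∈ O Q) (ht' : t' ∈ O Q) (hc : Commute t z)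
    (hc' : Commute t' z) : Commute t t' := by
  obtain ⟨a, ha, -, -⟩ := hT.cen t ht hc
  obtain ⟨a', ha', -, -⟩ := hT.cen t' ht' hc'
  set c := t * t' * (t' * t)⁻¹ with hcdef
  have hcO : c ∈ O Q := (O Q).mul_mem ((O Q).mul_mem ht ht') ((O Q).inv_mem ((O Q).mul_mem ht' ht))
  have hcz : Commute c z := (hc.mul_left hc').mul_left (hc'.mul_left hc).inv_left
  obtain ⟨b, hb, hb1, -⟩ := hT.cen c hcO hcz
  have h1 : c * (t' * t) = t * t' := by rw [hcdef, inv_mul_cancel_right]
  have h2 : c (t' (t (j 1))) = t (t' (j 1)) := LinearEquiv.congr_fun h1 (j 1)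
  rw [ha, ha', hb, ha', ha] at h2
  have h3 := hT.inj h2
  have ha0 : a ≠ 0 := by
    rintro rfl
    have h4 := ha 1
    rw [zero_mul, map_zero, LinearEquiv.map_eq_zero_iff] at h4
    exact one_ne_zero (hT.inj (h4.trans (map_zero j).symm))
  have ha0' : a' ≠ 0 := by
    rintro rfl
    have h4 := ha' 1
    rw [zero_mul, map_zero, LinearEquiv.map_eq_zero_iff] at h4
    exact one_ne_zero (hT.inj (h4.trans (map_zero j).symm))
  have h5 : b = 1 := by
    have h6 : (b - 1) * (a * a') = 0 := by linear_combination h3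
    exact sub_eq_zero.1 ((mul_eq_zero.1 h6).resolve_right (mul_ne_zero ha0 ha0'))
  rw [hb1 h5, one_mul] at h1
  exact h1.symm

/-- The extension of `z` by the identity. -/
def zz (P : Type*) [AddCommGroup P] [Module F P] (z : U ≃ₗ[F] U) : (U × P) ≃ₗ[F] (U × P) :=
  z.prodCongr (LinearEquiv.refl F P)

omit [Finite F] [Finite U] [Finite P] in
theorem zz_pow (k : ℕ) : zz P z ^ k = zz P (z ^ k) := by
  induction k with
  | zero => rfl
  | succ k ih => rw [pow_succ, ih, pow_succ]; rfl

theorem zz_mem_O (hz : z ∈ O Q) : zz P z ∈ O (prodForm Q Q') := by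
  intro v
  rw [prodForm_apply, prodForm_apply]
  show Q (z v.1) + Q' v.2 = _
  rw [hz]

/-- **Isolated primes in orthogonal groups.** -/
theorem iso_orth {p : ℕ} [Fact p.Prime] [CharP F p] (hr : r.Prime) (hT : TorU Q r z j lam)
    (hnd : Nondeg (prodForm Q Q')) (hP : finrank F P = 0 ∨ finrank F P = 2)
    (hq : ¬ r ∣ Nat.card F) (hq1 : ¬ r ∣ Nat.card F - 1) (hq2 : ¬ r ∣ Nat.card F ^ 2 - 1)
    (hzE : zz P z ∈ E (prodForm Q Q')) {S : Type*} [Group S] (π : E (prodForm Q Q') →* S)
    (hπ : Function.Surjective π)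
    (hker : ∀ k : E (prodForm Q Q'), k ∈ π.ker ↔ ∃ a : F, ∀ v, (k : (U × P) ≃ₗ[F] (U × P)) v = a • v)
    (hnot : ¬ ((∀ x : E (prodForm Q Q'), Commute (⟨zz P z, hzE⟩ : E (prodForm Q Q')) x → (π x) ^ r = 1) ∧
      r ≤ finrank F (U × P) + 1)) : IsoAt p r S := by
  classical
  have hfr : Fact r.Prime := ⟨hr⟩
  have hfdU : FiniteDimensional F U := Module.Finite.of_finite
  have hfdP : FiniteDimensional F P := Module.Finite.of_finite
  have hfin : Finite (E (prodForm Q Q')) := by
    have : Finite ((U × P) ≃ₗ[F] (U × P)) :=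
      Finite.of_injective (fun g : (U × P) ≃ₗ[F] (U × P) => (g : U × P → U × P)) DFunLike.coe_injective
    infer_instance
  have hchL : CharP L p := charP_of_injective_algebraMap (algebraMap F L).injective p
  have hr2 : r ≠ 2 := by
    rintro rfl
    rcases Nat.even_or_odd (Nat.card F) with h | h
    · exact hq h.two_dvd
    · exact hq1 ((Nat.Odd.sub_odd h odd_one).two_dvd)
  set z' : E (prodForm Q Q') := ⟨zz P z, hzE⟩ with hz'
  have hfix := hT.fix_eq hr.one_lt
  -- the order of `z'`
  have hU1 : ∃ v : U, v ≠ 0 := ⟨j 1, fun h => one_ne_zero (hT.inj (h.trans (map_zero j).symm))⟩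
  have hz'r : z' ^ r = 1 := by
    apply Subtype.ext
    show zz P z ^ r = 1
    rw [zz_pow, hT.pow_eq]
    rfl
  have hz'1 : z' ≠ 1 := by
    intro h
    obtain ⟨v, hv⟩ := hU1
    apply hv
    apply hfix
    have h1 : zz P z = 1 := congrArg Subtype.val h
    exact congrArg Prod.fst (LinearEquiv.congr_fun h1 (v, 0))
  have hz'o : orderOf z' = r := orderOf_eq_prime hz'r hz'1
  have hmem : ∀ {x : E (prodForm Q Q')}, x ∈ Subgroup.centralizer ({z'} : Set (E (prodForm Q Q'))) ↔ Commute z' x := by
    intro x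
    rw [Subgroup.mem_centralizer_singleton_iff]
    exact ⟨fun h => h.symm, fun h => h.symm⟩
  -- the blocks
  have hblock : ∀ x : E (prodForm Q Q'), Commute z' x → ∃ (t : U ≃ₗ[F] U) (s : P ≃ₗ[F] P),
      (x : (U × P) ≃ₗ[F] (U × P)) = t.prodCongr s ∧ t ∈ O Q ∧ Commute t z := by
    intro x hx
    have h1 : Commute (x : (U × P) ≃ₗ[F] (U × P)) (z.prodCongr (LinearEquiv.refl F P)) :=
      (congrArg Subtype.val hx.eq).symm
    obtain ⟨t, s, hts⟩ := block hfix h1
    refine ⟨t, s, hts, ?_, ?_⟩
    · intro v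
      have h2 := E_le_O x.2 (v, 0)
      rw [hts, prodForm_apply, prodForm_apply] at h2
      change Q (t v) + Q' (s 0) = Q v + Q' 0 at h2
      rw [map_zero, QuadraticMap.map_zero, add_zero, add_zero] at h2
      exact h2
    · ext v
      have h2 := LinearEquiv.congr_fun h1.eq (v, 0)
      rw [hts] at h2
      exact congrArg Prod.fst h2
  choose! tt ss hts htO htz using hblock
  -- powers
  have hpw : ∀ (x : E (prodForm Q Q')), Commute z' x → ∀ k : ℕ, x ^ k = 1 → tt x ^ k = 1 ∧ ss x ^ k = 1 := by
    intro x hx k hk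
    have h1 : (x : (U × P) ≃ₗ[F] (U × P)) ^ k = 1 := congrArg Subtype.val hk
    have h2 : ∀ k : ℕ, (x : (U × P) ≃ₗ[F] (U × P)) ^ k = (tt x ^ k).prodCongr (ss x ^ k) := by
      intro k
      induction k with
      | zero => rfl
      | succ k ih =>
        rw [pow_succ, ih, hts x hx]
        rfl
    rw [h2] at h1
    constructor
    · ext v
      exact congrArg Prod.fst (LinearEquiv.congr_fun h1 (v, 0))
    · ext v
      exact congrArg Prod.snd (LinearEquiv.congr_fun h1 (0, v))
  have hex : ∀ x : E (prodForm Q Q'), Commute z' x → ∃ a : L, (∀ l, tt x (j l) = j (a * l)) ∧ (a = 1 → tt x = 1) ∧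
      (a ≠ 1 → ∀ v, tt x v = v → v = 0) := fun x hx => hT.cen _ (htO x hx) (htz x hx)
  choose! aa haa haa1 haa2 using hex
  have haa0 : ∀ x : E (prodForm Q Q'), Commute z' x → aa x ≠ 0 := by
    intro x hx h0
    have h4 := haa x hx 1
    rw [h0, zero_mul, map_zero, LinearEquiv.map_eq_zero_iff] at h4
    exact one_ne_zero (hT.inj (h4.trans (map_zero j).symm))
  have hmul : ∀ x y : E (prodForm Q Q'), Commute z' x → Commute z' y → tt (x * y) = tt x * tt y := by
    intro x y hx hy
    ext v
    have h1 := hts (x * y) (hx.mul_right hy)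
    have h2 : ((x * y : E (prodForm Q Q')) : (U × P) ≃ₗ[F] (U × P)) = (x : (U × P) ≃ₗ[F] (U × P)) * y := rfl
    rw [h2, hts x hx, hts y hy] at h1
    exact (congrArg Prod.fst (LinearEquiv.congr_fun h1 (v, 0))).symm
  have hamul : ∀ x y : E (prodForm Q Q'), Commute z' x → Commute z' y → aa (x * y) = aa x * aa y := by
    intro x y hx hy
    have h1 := haa (x * y) (hx.mul_right hy) 1
    rw [hmul x y hx hy, LinearEquiv.mul_apply, haa y hy, haa x hx] at h1
    have h2 := hT.inj h1
    rw [mul_one, mul_one] at h2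
    exact h2.symm
  let τ : Subgroup.centralizer ({z'} : Set (E (prodForm Q Q'))) →* Lˣ :=
    MonoidHom.mk' (fun x => Units.mk0 (aa x) (haa0 x (hmem.1 x.2))) (fun x y => Units.ext (by
      show aa (x * y : E (prodForm Q Q')) = aa x * aa y
      exact hamul _ _ (hmem.1 x.2) (hmem.1 y.2)))
  have hss : ∀ x : E (prodForm Q Q'), Commute z' x → (∃ i : ℕ, x ^ (r ^ i) = 1) → ss x = 1 := by
    rintro x hx ⟨i, hi⟩
    exact eq_one_of_order (F := F) hr (by omega) hq hq1 hq2 ⟨i, (hpw x hx _ hi).2⟩
  have hone : ∀ x : E (prodForm Q Q'), Commute z' x → tt x = 1 → ss x = 1 → x = 1 := by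
    intro x hx h1 h2
    apply Subtype.ext
    rw [hts x hx, h1, h2]
    rfl
  -- the kernel
  have hkc : ∀ k ∈ π.ker, ∀ h : E (prodForm Q Q'), k * h = h * k := by
    intro k hk h
    obtain ⟨a, ha⟩ := (hker k).1 hk
    apply Subtype.ext
    ext v
    · show ((k : (U × P) ≃ₗ[F] (U × P)) ((h : (U × P) ≃ₗ[F] (U × P)) v)).1 = _
      rw [ha]
      show _ = ((h : (U × P) ≃ₗ[F] (U × P)) ((k : (U × P) ≃ₗ[F] (U × P)) v)).1
      rw [ha, map_smul]
    · show ((k : (U × P) ≃ₗ[F] (U × P)) ((h : (U × P) ≃ₗ[F] (U × P)) v)).2 = _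
      rw [ha]
      show _ = ((h : (U × P) ≃ₗ[F] (U × P)) ((k : (U × P) ≃ₗ[F] (U × P)) v)).2
      rw [ha, map_smul]
  have hk2 : ∀ k ∈ π.ker, (k ^ 2 = 1) ∧ (p = 2 → k = 1) := by
    intro k hk
    obtain ⟨a, ha⟩ := (hker k).1 hk
    -- a vector with nonzero value
    obtain ⟨w, hw⟩ : ∃ w : U × P, prodForm Q Q' w ≠ 0 := by
      by_contra hcon
      push Not at hcon
      obtain ⟨v, hv⟩ := hU1
      apply hv
      have h1 : ((v, 0) : U × P) = 0 := hnd _ fun y => by
        rw [QuadraticMap.polar, hcon, hcon, hcon, sub_zero, sub_zero]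
      exact congrArg Prod.fst h1
    have h1 := E_le_O k.2 w
    rw [ha, QuadraticMap.map_smul, smul_eq_mul] at h1
    have h2 : a * a = 1 := by
      apply mul_right_cancel₀ hw
      rw [h1, one_mul]
    constructor
    · apply Subtype.ext
      show (k : (U × P) ≃ₗ[F] (U × P)) ^ 2 = 1
      ext v
      · rw [pow_two, LinearEquiv.mul_apply, ha, ha, smul_smul, h2, one_smul]
        rfl
      · rw [pow_two, LinearEquiv.mul_apply, ha, ha, smul_smul, h2, one_smul]
        rfl
    · rintro rfl
      have h3 : a = 1 := by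
        have h4 : (a - 1) ^ 2 = 0 := by
          rw [sub_pow_char, one_pow, pow_two, h2, sub_self]
        exact sub_eq_zero.1 (pow_eq_zero_iff two_ne_zero |>.1 h4)
      apply Subtype.ext
      ext v
      · rw [ha, h3, one_smul]
        rfl
      · rw [ha, h3, one_smul]
        rfl
  set c : ℕ := if p = 2 then 1 else 2 with hcdef
  have hcc : ∀ k ∈ π.ker, k ^ c = 1 := by
    intro k hk
    rw [hcdef]
    split_ifs with hp2
    · rw [pow_one]; exact (hk2 k hk).2 hp2
    · exact (hk2 k hk).1
  have hpp : p.Prime := Fact.out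
  have hcr : c.Coprime r := by
    rw [hcdef]
    split_ifs with hp2
    · exact Nat.coprime_one_left r
    · exact (Nat.coprime_primes Nat.prime_two hr).2 (Ne.symm hr2)
  have hcp : c.Coprime p := by
    rw [hcdef]
    split_ifs with hp2
    · exact Nat.coprime_one_left p
    · exact (Nat.coprime_primes Nat.prime_two hpp).2 (Ne.symm hp2)
  refine isoAt_of_cover (c := c) (z := z') hπ hr hpp hkc hcc hcr hcp hz'o τ ?_ ?_ ?_ ?_
  · rintro x ⟨i, hi⟩ hx
    have hxz := hmem.1 x.2
    have hx' : (x : E (prodForm Q Q')) ^ (r ^ i) = 1 := congrArg Subtype.val hi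
    have h1 : aa (x : E (prodForm Q Q')) = 1 := congrArg Units.val hx
    exact Subtype.ext (hone _ hxz (haa1 _ hxz h1) (hss _ hxz ⟨i, hx'⟩))
  · rintro x y ⟨i, hi⟩
    have hxz := hmem.1 x.2
    have hyz := hmem.1 y.2
    have hx' : (x : E (prodForm Q Q')) ^ (r ^ i) = 1 := congrArg Subtype.val hi
    have h1 := hss _ hxz ⟨i, hx'⟩
    have h2 := hT.comm (htO _ hxz) (htO _ hyz) (htz _ hxz) (htz _ hyz)
    apply Subtype.ext
    apply Subtype.ext
    show ((x : E (prodForm Q Q')) : (U × P) ≃ₗ[F] (U × P)) * ((y : E (prodForm Q Q')) : (U × P) ≃ₗ[F] (U × P)) =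
      ((y : E (prodForm Q Q')) : (U × P) ≃ₗ[F] (U × P)) * ((x : E (prodForm Q Q')) : (U × P) ≃ₗ[F] (U × P))
    rw [hts _ hxz, hts _ hyz, h1]
    have h3 : ∀ (t t' : U ≃ₗ[F] U) (s s' : P ≃ₗ[F] P), t.prodCongr s * t'.prodCongr s' =
        (t * t').prodCongr (s * s') := fun _ _ _ _ => rfl
    rw [h3, h3, h2.eq, one_mul, mul_one]
  · intro x hx hxp
    obtain ⟨h1, h2⟩ := hpw x hx p hxp
    have h3 : aa x = 1 := by
      have h4 : aa x ^ p = 1 := by
        have hpow : ∀ k : ℕ, (tt x ^ k) (j 1) = j (aa x ^ k) := by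
          intro k
          induction k with
          | zero => simp
          | succ k ih =>
            rw [pow_succ', LinearEquiv.mul_apply, ih, haa x hx, pow_succ']
        have h5 := hpow p
        rw [h1] at h5
        exact (hT.inj h5).symm
      have h5 : (aa x - 1) ^ p = 0 := by rw [sub_pow_char, one_pow, h4, sub_self]
      exact sub_eq_zero.1 (pow_eq_zero_iff hpp.ne_zero |>.1 h5)
    have h4 := haa1 x hx h3
    refine hone x hx h4 ?_
    refine eq_one_of_even (F := F) (p := p) hP h2 ?_
    have h5 := even_E hnd x.2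
    have h6 : fix (x : (U × P) ≃ₗ[F] (U × P)) = (⊤ : Submodule F U).prod (fix (ss x)) := by
      ext v
      rw [mem_fix, hts x hx, h4, Submodule.mem_prod, mem_fix]
      constructor
      · intro h
        exact ⟨Submodule.mem_top, congrArg Prod.snd h⟩
      · rintro ⟨-, h⟩
        exact Prod.ext rfl h
    have h7 : finrank F ((⊤ : Submodule F U).prod (fix (ss x)) : Submodule F (U × P)) =
        finrank F U + finrank F (fix (ss x)) := by
      have e : ((⊤ : Submodule F U).prod (fix (ss x)) : Submodule F (U × P)) ≃ₗ[F] U × fix (ss x) :=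
        { toFun := fun v => (v.1.1, ⟨v.1.2, v.2.2⟩)
          invFun := fun v => ⟨(v.1, v.2.1), ⟨Submodule.mem_top, v.2.2⟩⟩
          map_add' := fun _ _ => rfl
          map_smul' := fun _ _ => rfl
          left_inv := fun _ => rfl
          right_inv := fun _ => rfl }
      rw [e.finrank_eq, finrank_prod]
    rw [h6, h7, finrank_prod] at h5
    have hP2 : Even (finrank F P) := by
      rcases hP with h | h <;> rw [h] <;> decide
    have h8 : Even (2 * finrank F U + finrank F P + finrank F (fix (ss x))) := by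
      convert h5 using 1
      ring
    have h9 : Even (2 * finrank F U + finrank F P) := (even_two_mul _).add hP2
    exact (Nat.even_add.1 h8).1 h9
  · rintro ⟨h1, h2⟩
    refine hnot ⟨h1, ?_⟩
    -- the eigenvalues
    have hjj : Function.Injective ((LinearMap.inl F U P).comp j) := fun a b hab => hT.inj (congrArg Prod.fst hab)
    refine le_of_roots (L := L) (zz P z).toLinearMap hT.ord ?_
    intro m hm0 hm
    have hrm : ¬ r ∣ m := fun h => absurd (Nat.le_of_dvd hm0 h) (not_le.2 hm)
    obtain ⟨g, hg⟩ := isConj_iff.1 (h2 m hrm)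
    have hg' : (g : (U × P) ≃ₗ[F] (U × P)) * zz P z * (g : (U × P) ≃ₗ[F] (U × P))⁻¹ = zz P z ^ m :=
      congrArg Subtype.val hg
    have h3 : (zz P z ^ m).toLinearMap.charpoly = (zz P z).toLinearMap.charpoly := by
      rw [← hg']
      exact LinearEquiv.charpoly_conj (g : (U × P) ≃ₗ[F] (U × P)) (zz P z).toLinearMap
    rw [← h3]
    refine root_charpoly _ (lam ^ m) ((LinearMap.inl F U P).comp j) hjj ?_
    have hpow : ∀ (k : ℕ) (l : L), (zz P z ^ k) (j l, 0) = (j (lam ^ k * l), 0) := by
      intro k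
      induction k with
      | zero => intro l; simp
      | succ k ih =>
        intro l
        have h4 : zz P z (j l, 0) = (j (lam * l), 0) := Prod.ext (hT.eig l) rfl
        rw [pow_succ, LinearEquiv.mul_apply, h4, ih, pow_succ, mul_assoc]
    exact fun l => hpow m l

end main

end Cfsg.Agent.H530.OZ
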