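import Cfsg.Agent.H530.OZ.Row
import Cfsg.Agent.H279.OZ.Kaw

/-!
# S4842: the rows `POmega⁻_{2n}` and `POmega⁺_{2n}`, `n` odd, final form (helper530)
-/

set_option autoImplicit false

namespace Cfsg.Agent.H530.OZ

open Cfsg Cfsg.Agent.H730.OZ

universe u

/-- **The row `POmega⁻`** -/
theorem row_isPOmegaMinus {S : Type u} [Group S] [Finite S] (hs : IsSimpleGroup S) (h : IsPOmegaMinus S) : Row S :=
  row_minus_of_kaw hs h fun _ hp hG => Cfsg.Agent.H279.OZ.kaw_of_hasRGD hp hG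

/-- **The row `POmega⁺_{2n}`, `n` odd** -/
theorem row_plus_odd {S : Type u} [Group S] [Finite S] (hs : IsSimpleGroup S) {F : Type} [Field F] [Fintype F]
    {n : ℕ} (hn : 4 ≤ n) (hodd : Odd n) (e : S ≃* POmega F (quadFormPlus n F)) : Row S :=
  row_plus_of_kaw hs hn hodd e fun _ hp hG => Cfsg.Agent.H279.OZ.kaw_of_hasRGD hp hG

end Cfsg.Agent.H530.OZ
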